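import Groth.Agent.Pi1Ext.PuritySch
import Groth.Agent.H9Pur.SchemeSect

/-!
# Isomorphisms and covers of restricted spectra
-/

set_option autoImplicit false
set_option linter.style.haveILetI false

universe u

open CategoryTheory CategoryTheory.Limits AlgebraicGeometry IsLocalRing Groth.Agent.Pi1Ext.RegPurity
  Groth.Agent.Pi1Ext.PuritySch

noncomputable section

namespace Groth.Agent.H9Lef

open Groth.Agent Groth.Agent.H9Pur

set_option backward.isDefEq.respectTransparency false
set_option backward.isDefEq.respectTransparency.types false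

variable {A : Type u} [CommRing A] [IsLocalRing A] {B C : Type u} [CommRing B] [CommRing C] [Algebra A B]
  [Algebra A C]

/-- An algebra map which is an isomorphism away from the closed point gives an isomorphism of restrictions. -/
theorem isIso_restMap (f : C →ₐ[A] B) (hf : ∀ g ∈ maximalIdeal A, IsoAway f g)
    (hC : FEt.prop (rest A C)) (hB : FEt.prop (rest A B)) : IsIso (restMap f) := by
  let ψ : obj B hB ⟶ obj C hC := MorphismProperty.Over.homMk (restMap f) (pullback.lift_snd _ _ _)
  haveI : IsIso ψ := by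
    refine Pi1X.isIso_of_fiber_bijective ψ fun Z _ ⟨x, hx⟩ => ?_
    obtain ⟨Ω, iF, _, ξ, hξ⟩ := Pi1X.exists_geometric_point x
    refine ⟨Ω, iF, inferInstance, ξ, hξ ▸ hx, ?_⟩
    obtain ⟨φ, hφ⟩ : ∃ φ : CommRingCat.of A ⟶ CommRingCat.of Ω, Spec.map φ = ξ ≫ (FEt.puncturedSpec A).ι :=
      ⟨Spec.preimage _, Spec.map_preimage _⟩
    obtain ⟨g, hg, hu⟩ := isUnit_of_point ξ hφ
    letI : Algebra A Ω := φ.hom.toAlgebra
    -- points are algebra maps
    have hpt : ∀ (R : Type u) [CommRing R] [Algebra A R] (s : Spec (CommRingCat.of Ω) ⟶ pullback (sp A R) (FEt.puncturedSpec A).ι),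
        s ≫ pullback.snd _ _ = ξ → ∃ β : R →ₐ[A] Ω, Spec.map (CommRingCat.ofHom β.toRingHom) = s ≫ pullback.fst _ _ := by
      intro R _ _ s hs
      have h1 : CommRingCat.ofHom (algebraMap A R) ≫ Spec.preimage (s ≫ pullback.fst _ _) = φ :=
        Spec.map_injective (by
          rw [Spec.map_comp, Spec.map_preimage, hφ, ← hs, Category.assoc, Category.assoc, pullback.condition])
      refine ⟨{ (Spec.preimage (s ≫ pullback.fst (sp A R) (FEt.puncturedSpec A).ι)).hom with
        commutes' := fun a => ConcreteCategory.congr_hom h1 a }, ?_⟩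
      exact Spec.map_preimage _
    constructor
    · intro s t hst
      obtain ⟨β, hβ⟩ := hpt B s.1 s.2
      obtain ⟨γ, hγ⟩ := hpt B t.1 t.2
      have hc : ∀ c, β (f c) = γ (f c) := fun c => by
        have h1 : Spec.map (CommRingCat.ofHom (β.comp f).toRingHom) = Spec.map (CommRingCat.ofHom (γ.comp f).toRingHom) := by
          have h2 : (s.1 ≫ restMap f) ≫ pullback.fst _ _ = (t.1 ≫ restMap f) ≫ pullback.fst _ _ :=
            congrArg (· ≫ pullback.fst _ _) (congrArg Subtype.val hst)
          rw [Category.assoc, Category.assoc, restMap, pullback.lift_fst, ← Category.assoc, ← Category.assoc,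
            ← hβ, ← hγ, ← Spec.map_comp, ← Spec.map_comp] at h2
          exact h2
        exact ConcreteCategory.congr_hom (Spec.map_injective h1) c
      have hb : β = γ := AlgHom.ext fun b => by
        obtain ⟨n, c, hc'⟩ := (hf g hg).1 b
        have := hc c
        rw [← hc', map_smul, map_smul, Algebra.smul_def, Algebra.smul_def, map_pow] at this
        exact (hu.pow n).mul_left_cancel this
      refine Subtype.ext (pullback.hom_ext ?_ (s.2.trans t.2.symm))
      rw [← hβ, ← hγ, hb]
    · intro t
      obtain ⟨γ, hγ⟩ := hpt C t.1 t.2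
      obtain ⟨β, hβ⟩ := (hf g hg).exists_extend γ hu
      have hw : Spec.map (CommRingCat.ofHom β.toRingHom) ≫ sp A B = ξ ≫ (FEt.puncturedSpec A).ι := by
        rw [← Spec.map_comp, ← hφ]
        congr 1
        ext a
        exact β.commutes a
      refine ⟨⟨pullback.lift _ ξ hw, pullback.lift_snd _ _ _⟩, Subtype.ext ?_⟩
      show pullback.lift _ ξ hw ≫ restMap f = t.1
      refine pullback.hom_ext ?_ ?_
      · rw [Category.assoc, restMap, pullback.lift_fst, pullback.lift_fst_assoc, ← hγ, ← Spec.map_comp]
        congr 1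
        ext c
        exact hβ c
      · rw [Category.assoc, restMap, pullback.lift_snd, pullback.lift_snd]
        exact t.2.symm
  exact inferInstanceAs (IsIso ((MorphismProperty.Over.forget FEt.prop ⊤ _ ⋙ CategoryTheory.Over.forget _).map ψ))

instance isOpenImmersion_jS {g : A} (hg : g ∈ maximalIdeal A) : IsOpenImmersion (jS C hg) := by
  haveI : IsOpenImmersion (Spec.map (CommRingCat.ofHom (algebraMap C (H9Pur.L C g)))) :=
    IsOpenImmersion.of_isLocalization (algebraMap A C g)
  haveI : IsOpenImmersion (jS C hg ≫ pullback.fst _ _) := by rw [jS_fst]; infer_instance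
  exact IsOpenImmersion.of_comp (jS C hg) (pullback.fst _ _)

variable (C) in
/-- The standard opens of generators of the maximal ideal cover the restriction. -/
def jCover {r : ℕ} (g : Fin r → A) (hg : Ideal.span (Set.range g) = maximalIdeal A) :
    Scheme.OpenCover.{0} (pullback (sp A C) (FEt.puncturedSpec A).ι) :=
  Scheme.Cover.mkOfCovers (Fin r) (fun i => Spec (CommRingCat.of (H9Pur.L C (g i))))
    (fun i => jS C (hg ▸ Ideal.subset_span ⟨i, rfl⟩ : g i ∈ maximalIdeal A))
    (fun y => by
      let u := (pullback.snd (sp A C) (FEt.puncturedSpec A).ι) y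
      obtain ⟨h, hh, hhu⟩ := exists_mem_max u
      obtain ⟨i, hi⟩ : ∃ i, g i ∉ ((FEt.puncturedSpec A).ι u : PrimeSpectrum A).asIdeal := by
        by_contra hc
        push Not at hc
        refine hhu ((Ideal.span_le.2 ?_) (hg.symm ▸ hh : h ∈ Ideal.span (Set.range g)))
        rintro _ ⟨i, rfl⟩
        exact hc i
      have hu : (sp A C) ((pullback.fst (sp A C) (FEt.puncturedSpec A).ι) y) = (FEt.puncturedSpec A).ι u := by
        rw [← Scheme.Hom.comp_apply, pullback.condition, Scheme.Hom.comp_apply]
      have hy : ((pullback.fst (sp A C) (FEt.puncturedSpec A).ι) y : PrimeSpectrum C) ∈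
          Set.range (PrimeSpectrum.comap (algebraMap C (H9Pur.L C (g i)))) := by
        rw [PrimeSpectrum.localization_away_comap_range (H9Pur.L C (g i)) (algebraMap A C (g i))]
        intro hmem
        rw [← hu] at hi
        exact hi hmem
      obtain ⟨q, hq⟩ := hy
      refine ⟨i, q, (pullback.fst (sp A C) (FEt.puncturedSpec A).ι).isOpenEmbedding.injective ?_⟩
      rw [← Scheme.Hom.comp_apply, jS_fst]
      exact hq)
    (fun i => isOpenImmersion_jS _)

theorem hom_ext_jS {r : ℕ} {g : Fin r → A} (hg : Ideal.span (Set.range g) = maximalIdeal A) {W : Scheme.{u}}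
    (a b : pullback (sp A C) (FEt.puncturedSpec A).ι ⟶ W)
    (h : ∀ i, jS C (hg ▸ Ideal.subset_span ⟨i, rfl⟩ : g i ∈ maximalIdeal A) ≫ a =
      jS C (hg ▸ Ideal.subset_span ⟨i, rfl⟩ : g i ∈ maximalIdeal A) ≫ b) : a = b :=
  (jCover C g hg).hom_ext a b h

end Groth.Agent.H9Lef

end
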