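import Groth.Agent.H9Lef.SecLC
import Groth.Agent.S1712
import Groth.Agent.S1713
import Groth.Agent.KFlatLib.Ring.DualizingDimension
import Groth.Agent.KFlatLib.Ring.InvertibleTwist
import Groth.Agent.Synt29.SmoothProps

/-!
# Killing local cohomology by depth conditions, with a dualizing complex
-/

set_option autoImplicit false
set_option linter.style.haveILetI false

universe u

open CategoryTheory IsLocalRing
attribute [local instance] HasDerivedCategory.standard

noncomputable section

namespace Groth.Agent.H9Lef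

open Groth.Agent

variable {A : Type u} [CommRing A] [IsNoetherianRing A] [IsLocalRing A] {ω : Dual.D A}

theorem exists_normalized (hω : Dual.IsDualizing A ω) :
    ∃ ω' : Dual.D A, Dual.IsDualizing A ω' ∧ Dual.IsNormalized A ω' := by
  obtain ⟨n, hn, -, -, -⟩ := KFlatLib.exists_extDegree hω
  let c := n (IsLocalRing.closedPoint A)
  refine ⟨ω⟦c⟧, KFlatLib.isDualizing_shift hω c, fun i hi => ?_⟩
  have hloc : Subsingleton (LocalizedModule (IsLocalRing.closedPoint A).asIdeal.primeCompl
      (Dual.inD A (A ⧸ (IsLocalRing.closedPoint A).asIdeal) ⟶ ω⟦c + i⟧)) :=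
    not_nontrivial_iff_subsingleton.1 fun h => hi (by
      have : c + i = c := (hn (IsLocalRing.closedPoint A) _).1 h
      omega)
  haveI : Subsingleton (Dual.inD A (IsLocalRing.ResidueField A) ⟶ ω⟦c + i⟧) := by
    show Subsingleton (Dual.inD A (A ⧸ (IsLocalRing.closedPoint A).asIdeal) ⟶ ω⟦c + i⟧)
    refine subsingleton_of_forall_eq 0 fun x => ?_
    obtain ⟨s, hs, hsx⟩ := LocalizedModule.subsingleton_iff.1 hloc x
    exact (IsLocalRing.notMem_maximalIdeal.1 hs).smul_eq_zero.1 hsx
  exact ((Iso.refl _).homCongr ((shiftFunctorAdd (Dual.D A) c i).app ω)).symm.injective.subsingleton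

/-- A depth inequality off `V(f)` kills local cohomology by a power of `f`. -/
theorem killedH_of_dualizing (hω : Dual.IsDualizing A ω) {f : A} {i : ℕ}
    (h : ∀ p : Ideal A, ∀ _ : p.IsPrime, f ∉ p → (i : WithBot ℕ∞) <
      (LocCoh.depth (Localization.AtPrime p) (Localization.AtPrime p) : WithBot ℕ∞) + ringKrullDim (A ⧸ p)) :
    KilledH (maximalIdeal A) f i A := by
  obtain ⟨ω', hω', hN⟩ := exists_normalized hω
  obtain ⟨a, b, -, hGE, -⟩ := KFlatLib.exists_bounds_of_isDualizing hω'
  haveI := hGE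
  haveI : Module.Finite A (Dual.inD A A ⟶ ω'⟦(-(i : ℤ))⟧) :=
    KFlatLib.finite_hom_module ω' a hω'.finite_cohomology A _
  have hf : f ∈ (Module.annihilator A (Dual.inD A A ⟶ ω'⟦(-(i : ℤ))⟧)).radical := by
    rw [← PrimeSpectrum.vanishingIdeal_zeroLocus_eq_radical, ← Module.support_eq_zeroLocus,
      PrimeSpectrum.mem_vanishingIdeal]
    intro p hp
    by_contra hfp
    exact absurd ((S1712.result A ω' hω' hN A i p).1 ⟨i, le_rfl, hp⟩) (not_le.2 (h p.asIdeal p.2 hfp))
  obtain ⟨c, hc⟩ := hf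
  rw [S1713.result A ω' hω' hN A i] at hc
  exact ⟨c, fun z => Module.mem_annihilator.1 hc z⟩

theorem three_le_of_hasSk (hω : Dual.IsDualizing A ω) {f : A} (hf : f ∈ maximalIdeal A)
    (hS : LocCoh.HasSk 2 (Localization.Away f) (Localization.Away f))
    (hmin : ∀ p : Ideal A, p ∈ minimalPrimes A → f ∉ p → (3 : WithBot ℕ∞) ≤ ringKrullDim (A ⧸ p))
    (p : Ideal A) [p.IsPrime] (hfp : f ∉ p) :
    (2 : WithBot ℕ∞) <
      (LocCoh.depth (Localization.AtPrime p) (Localization.AtPrime p) : WithBot ℕ∞) + ringKrullDim (A ⧸ p) := by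
  obtain ⟨n, -, hcov, hmono, -⟩ := KFlatLib.exists_extDegree hω
  let P : PrimeSpectrum A := ⟨p, inferInstance⟩
  obtain ⟨e, he, he'⟩ := KFlatLib.ringKrullDim_quotient_eq hcov hmono P
  have he1 : 1 ≤ e := by
    have : n P < n (IsLocalRing.closedPoint A) := hmono (lt_of_le_of_ne
      (IsLocalRing.le_maximalIdeal P.isPrime.ne_top : P ≤ IsLocalRing.closedPoint A)
      fun h => hfp (by
        have h' : p = maximalIdeal A := congrArg PrimeSpectrum.asIdeal h
        rw [h']; exact hf))
    omega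
  have hdisj : Disjoint (Submonoid.powers f : Set A) (p : Set A) := by
    rw [Set.disjoint_left]
    rintro _ ⟨m, rfl⟩ hm
    exact hfp (Ideal.IsPrime.mem_of_pow_mem inferInstance m hm)
  have hd := (Synt29.SmoothProps.hasSk_self_localization_iff (Submonoid.powers f) 2).1 hS p hdisj
  rw [show ringKrullDim (A ⧸ p) = (e : WithBot ℕ∞) from he]
  suffices h : (3 : ℕ∞) ≤ LocCoh.depth (Localization.AtPrime p) (Localization.AtPrime p) + e by
    calc (2 : WithBot ℕ∞) < ((3 : ℕ∞) : WithBot ℕ∞) := WithBot.coe_lt_coe.2 (show (2 : ℕ∞) < 3 by norm_num)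
      _ ≤ _ := by exact_mod_cast h
  by_cases h0 : p.height = 0
  · have hpm : p ∈ minimalPrimes A := Ideal.height_eq_zero_iff.1 h0
    have h3 := hmin p hpm hfp
    rw [show ringKrullDim (A ⧸ p) = (e : WithBot ℕ∞) from he] at h3
    exact le_add_left (by exact_mod_cast h3)
  by_cases h1 : p.height = 1
  · -- a minimal prime immediately below
    obtain ⟨q, hq, hqp⟩ := Ideal.exists_minimalPrimes_le (I := (⊥ : Ideal A)) (J := p) bot_le
    haveI := hq.1.1
    have hne : q ≠ p := fun h => h0 (Ideal.height_eq_zero_iff.2 (h ▸ hq))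
    let Q : PrimeSpectrum A := ⟨q, inferInstance⟩
    have hQP : Q ⋖ P := ⟨lt_of_le_of_ne (hqp : Q ≤ P) fun h => hne (congrArg PrimeSpectrum.asIdeal h), fun R hQR hRP => by
      have h2 : q.height + 1 ≤ R.asIdeal.height :=
        Order.add_one_le_of_lt (Ideal.height_strict_mono_of_isPrime hQR)
      have h3 : R.asIdeal.height < p.height := Ideal.height_strict_mono_of_isPrime hRP
      rw [h1] at h3
      exact absurd h3 (not_lt.2 ((le_add_left le_rfl).trans h2))⟩
    have hfq : f ∉ q := fun h => hfp (hqp h)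
    obtain ⟨e', h4, h5⟩ := KFlatLib.ringKrullDim_quotient_eq hcov hmono Q
    have h6 := hmin q hq hfq
    rw [show ringKrullDim (A ⧸ q) = (e' : WithBot ℕ∞) from h4] at h6
    have h7 : 3 ≤ e' := by exact_mod_cast h6
    have := hcov Q P hQP
    have h8 : 2 ≤ e := by omega
    calc (3 : ℕ∞) = 1 + 2 := by norm_num
      _ ≤ _ := add_le_add (le_trans (by rw [h1]; norm_num) hd) (by exact_mod_cast h8)
  · have h2 : (2 : ℕ∞) ≤ p.height :=
      Order.add_one_le_of_lt (lt_of_le_of_ne (Order.one_le_iff_ne_zero.2 h0) (Ne.symm h1))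
    calc (3 : ℕ∞) = 2 + 1 := by norm_num
      _ ≤ _ := add_le_add (le_trans (by rw [Nat.cast_two]; exact le_min le_rfl h2) hd) (by exact_mod_cast he1)

end Groth.Agent.H9Lef

end
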