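import Groth.Agent.H9Lef.SecLimit
import Groth.Agent.H9FormalCoh.Site
import Groth.Agent.SiteBase.Sections
import Groth.Agent.TildeTorsion
import Groth.Prelude.Def_Formal2

/-!
# Formal sections on a punctured spectrum along a principal ideal
-/

set_option autoImplicit false
set_option linter.style.haveILetI false

universe u

open CategoryTheory CategoryTheory.Limits AlgebraicGeometry Opposite CategoryTheory.Abelian TopologicalSpace

noncomputable section

namespace Groth.Agent.H9Lef

open Groth.Agent TildeTorsion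

set_option backward.isDefEq.respectTransparency false
set_option backward.isDefEq.respectTransparency.types false

variable (A : Type u) [CommRing A] [IsNoetherianRing A]

/-- Sections of `M~` over an open. -/
abbrev Sct (M : Type u) [AddCommGroup M] [Module A M] (U : (Spec (CommRingCat.of A)).Opens) : Type u :=
  ↑((P (A := CommRingCat.of A) (ModuleCat.of A M)).obj (op U))

variable {A}

/-- Restriction of sections. -/
abbrev sres {M : Type u} [AddCommGroup M] [Module A M] {U V : (Spec (CommRingCat.of A)).Opens} (h : V ≤ U) :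
    Sct A M U →ₗ[A] Sct A M V :=
  ((P (A := CommRingCat.of A) (ModuleCat.of A M)).map (homOfLE h).op).hom

/-- Functoriality of sections. -/
abbrev smap {M N : Type u} [AddCommGroup M] [Module A M] [AddCommGroup N] [Module A N] (φ : M →ₗ[A] N)
    (U : (Spec (CommRingCat.of A)).Opens) : Sct A M U →ₗ[A] Sct A N U :=
  ((modulesSpecToSheaf.map (tilde.map (R := CommRingCat.of A) (ModuleCat.ofHom φ))).hom.app (op U)).hom

/-- An element as a section. -/
abbrev sec (M : Type u) [AddCommGroup M] [Module A M] (U : (Spec (CommRingCat.of A)).Opens) :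
    M →ₗ[A] Sct A M U :=
  (tilde.toOpen (R := CommRingCat.of A) (ModuleCat.of A M) U).hom

variable {M N : Type u} [AddCommGroup M] [Module A M] [AddCommGroup N] [Module A N]

theorem away_toOpen {R : CommRingCat.{u}} (M : ModuleCat.{u} R) (a : R) :
    IsLocalizedModule.Away a (tilde.toOpen M (PrimeSpectrum.basicOpen a)).hom :=
  inferInstance

instance isLocalizedModule_sec (M : Type u) [AddCommGroup M] [Module A M] (a : A) :
    IsLocalizedModule (Submonoid.powers a) (sec M (D (A := CommRingCat.of A) a)) :=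
  away_toOpen (R := CommRingCat.of A) (ModuleCat.of A M) a

theorem sres_sec {U V : (Spec (CommRingCat.of A)).Opens} (h : V ≤ U) (m : M) :
    sres h (sec M U m) = sec M V m :=
  res_toOpen (A := CommRingCat.of A) (M := ModuleCat.of A M) h m

theorem sres_sres {U V W : (Spec (CommRingCat.of A)).Opens} (i : U ≤ V) (j : V ≤ W) (z : Sct A M W) :
    sres i (sres j z) = sres (i.trans j) z :=
  res_res (A := CommRingCat.of A) (M := ModuleCat.of A M) i j z

set_option maxHeartbeats 800000 in
theorem smap_sec (φ : M →ₗ[A] N) (U : (Spec (CommRingCat.of A)).Opens) (m : M) :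
    smap φ U (sec M U m) = sec N U (φ m) :=
  ConcreteCategory.congr_hom (tilde.toOpen_map_app (R := CommRingCat.of A) (ModuleCat.ofHom φ) U) m

theorem smap_sres (φ : M →ₗ[A] N) {U V : (Spec (CommRingCat.of A)).Opens} (h : V ≤ U) (z : Sct A M U) :
    smap φ V (sres h z) = sres h (smap φ U z) :=
  ConcreteCategory.congr_hom
    ((modulesSpecToSheaf.map (tilde.map (R := CommRingCat.of A) (ModuleCat.ofHom φ))).hom.naturality (homOfLE h).op) z

/-- Degree zero classes of an abelian sheaf are its sections. -/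
def secH0 {X : TopCat.{u}} (F : CohTop.Ab X) (U : Opens X) : F.obj.obj (op U) ≃ CohTop.HU F 0 U :=
  ((Ext.addEquiv₀.trans (SiteBase.secEquiv (Opens.grothendieckTopology X) U F)).symm :
    F.obj.obj (op U) ≃+ Ext (CohCx.freeSheaf (Opens.grothendieckTopology X) U) F 0).toEquiv

theorem HUmap_secH0 {X : TopCat.{u}} {F G : CohTop.Ab X} (φ : F ⟶ G) (U : Opens X) (z : F.obj.obj (op U)) :
    CohTop.HUmap φ 0 U (secH0 F U z) = secH0 G U ((φ.hom.app (op U)).hom z) :=
  (H9FormalCoh.HUmap_mk₀ φ U _).trans (congrArg Ext.mk₀ (SiteBase.secEquiv_symm_comp U z φ))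

/-- Degree zero cohomology is sections. -/
def secHV (M : Type u) [AddCommGroup M] [Module A M] (U : (Spec (CommRingCat.of A)).Opens) :
    Sct A M U ≃ Formal2.HV A M 0 U :=
  secH0 (Coh.toAb (Formal2.tmod A M)) U

set_option maxHeartbeats 800000 in
theorem HVmap_secHV (φ : M →ₗ[A] N) (U : (Spec (CommRingCat.of A)).Opens) (z : Sct A M U) :
    Formal2.HVmap A φ 0 U (secHV M U z) = secHV N U (smap φ U z) :=
  HUmap_secH0 ((SheafOfModules.toSheaf _).map (Formal2.tmodMap A φ)) U z

section Cover

variable {r : ℕ} (g : Fin r → A)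

/-- The charts. -/
abbrev Lg (M : Type u) [AddCommGroup M] [Module A M] (i : Fin r) : Type u :=
  Sct A M (D (A := CommRingCat.of A) (g i))

/-- The maps to the charts. -/
abbrev ℓg (M : Type u) [AddCommGroup M] [Module A M] (i : Fin r) : M →ₗ[A] Lg g M i :=
  sec M (D (A := CommRingCat.of A) (g i))

variable {g} {𝔞 : Ideal A} (hg : Ideal.span (Set.range g) = 𝔞)

include hg in
theorem D_le (i : Fin r) : D (A := CommRingCat.of A) (g i) ≤ LocCoh.puncturedOpen A 𝔞 :=
  basicOpen_le_puncturedOpen (A := CommRingCat.of A) (a := 𝔞) (hg ▸ Ideal.subset_span ⟨i, rfl⟩)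

/-- A section in the charts. -/
def chart (z : Sct A M (LocCoh.puncturedOpen A 𝔞)) (i : Fin r) : Lg g M i :=
  sres (D_le hg i) z

include hg in
theorem exists_mem_D {x : Spec (CommRingCat.of A)} (hx : x ∈ LocCoh.puncturedOpen A 𝔞) :
    ∃ i, x ∈ D (A := CommRingCat.of A) (g i) := by
  by_contra hne
  push Not at hne
  refine hx (show 𝔞 ≤ x.asIdeal from ?_)
  rw [← hg, Ideal.span_le]
  rintro _ ⟨i, rfl⟩
  exact not_not.1 (hne i)

theorem chart_injective {z z' : Sct A M (LocCoh.puncturedOpen A 𝔞)} (h : ∀ i, chart hg z i = chart hg z' i) :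
    z = z' :=
  sub_eq_zero.1 (eq_zero_of_cover _ fun x hx => by
    obtain ⟨i, hi⟩ := exists_mem_D hg hx
    exact ⟨_, D_le hg i, hi, by rw [map_sub, sub_eq_zero]; exact h i⟩)

theorem isSec_chart (z : Sct A M (LocCoh.puncturedOpen A 𝔞)) : IsSec (ℓg g M) g (chart hg z) := by
  obtain ⟨k, m, hm⟩ := exists_frac (ℓ := ℓg g M) (g := g) (chart hg z)
  have key : ∀ i j, ∃ K, (g i * g j) ^ K • (g j ^ k • m i - g i ^ k • m j) = 0 := fun i j => by
    have hle : D (A := CommRingCat.of A) (g i * g j) ≤ D (A := CommRingCat.of A) (g i) :=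
      PrimeSpectrum.basicOpen_mul_le_left (g i) (g j)
    have hle' : D (A := CommRingCat.of A) (g i * g j) ≤ D (A := CommRingCat.of A) (g j) :=
      PrimeSpectrum.basicOpen_mul_le_right (g i) (g j)
    have ei := congrArg (sres hle) (hm i)
    have ej := congrArg (sres hle') (hm j)
    rw [map_smul, sres_sec, chart, sres_sres] at ei ej
    have h0 : sec M (D (A := CommRingCat.of A) (g i * g j)) (g j ^ k • m i - g i ^ k • m j) = 0 := by
      rw [map_sub, map_smul, map_smul, ← ei, ← ej, smul_comm, sub_self]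
    obtain ⟨⟨_, K, rfl⟩, hK⟩ := (IsLocalizedModule.eq_zero_iff (Submonoid.powers (g i * g j))
      (sec M (D (A := CommRingCat.of A) (g i * g j)))).1 h0
    exact ⟨K, hK⟩
  choose K hK using key
  rw [← isApprox_bot, isApprox_iff hm]
  refine ⟨Finset.univ.sup fun p : Fin r × Fin r => K p.1 p.2, fun i j => ?_⟩
  obtain ⟨d, hd⟩ := Nat.exists_eq_add_of_le
    (Finset.le_sup (f := fun p : Fin r × Fin r => K p.1 p.2) (Finset.mem_univ (i, j)))
  rw [Submodule.mem_bot, hd, add_comm, pow_add, mul_smul]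
  exact (congrArg _ (hK i j)).trans (smul_zero _)

theorem exists_chart_eq {x : ∀ i, Lg g M i} (hx : IsSec (ℓg g M) g x) :
    ∃ z : Sct A M (LocCoh.puncturedOpen A 𝔞), chart hg z = x := by
  obtain ⟨k, m, h1, h2⟩ := hx
  obtain ⟨z, hz, -⟩ := (modulesSpecToSheaf.obj (tilde (R := CommRingCat.of A) (ModuleCat.of A M))).existsUnique_gluing'
    (fun i : ULift.{u} (Fin r) => D (A := CommRingCat.of A) (g i.down)) (LocCoh.puncturedOpen A 𝔞)
    (fun i => homOfLE (D_le hg i.down))
    (fun p hp => by
      obtain ⟨i, hi⟩ := exists_mem_D hg hp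
      exact Opens.mem_iSup.2 ⟨⟨i⟩, hi⟩)
    (fun i => x i.down) fun i j => by
      refine sub_eq_zero.1 (pow_smul_injective (A := CommRingCat.of A) (f := g i.down * g j.down)
        (le_of_eq (PrimeSpectrum.basicOpen_mul _ _).symm) k ?_)
      have ei := congrArg (sres (inf_le_left : D (A := CommRingCat.of A) (g i.down) ⊓ D (A := CommRingCat.of A) (g j.down) ≤ _)) (h1 i.down)
      have ej := congrArg (sres (inf_le_right : D (A := CommRingCat.of A) (g i.down) ⊓ D (A := CommRingCat.of A) (g j.down) ≤ _)) (h1 j.down)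
      rw [map_smul, sres_sec] at ei ej
      show (g i.down * g j.down) ^ k • (sres (M := M) (inf_le_left : D (A := CommRingCat.of A) (g i.down) ⊓ D (A := CommRingCat.of A) (g j.down) ≤ _) (x i.down) -
        sres (M := M) (inf_le_right : D (A := CommRingCat.of A) (g i.down) ⊓ D (A := CommRingCat.of A) (g j.down) ≤ _) (x j.down)) = 0
      rw [smul_sub, mul_pow]
      nth_rw 2 [mul_smul]
      rw [mul_comm, mul_smul, ei, ej, ← map_smul, ← map_smul, h2, sub_self]
  exact ⟨z, funext fun i => hz ⟨i⟩⟩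

theorem smap_chart (φ : M →ₗ[A] N) (z : Sct A M (LocCoh.puncturedOpen A 𝔞)) (i : Fin r) :
    smap φ _ (chart hg z i) = chart hg (smap φ _ z) i :=
  smap_sres φ _ z

theorem smap_ℓg (φ : M →ₗ[A] N) (i : Fin r) (m : M) : smap φ _ (ℓg g M i m) = ℓg g N i (φ m) :=
  smap_sec φ _ m

variable (g) in
theorem smap_surjective (φ : M →ₗ[A] N) (hφ : Function.Surjective φ) (i : Fin r) :
    Function.Surjective (smap φ (D (A := CommRingCat.of A) (g i))) := fun y => by
  obtain ⟨k, n, hn⟩ := exists_pow_smul_mem (ℓ := ℓg g N) (g := g) i y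
  obtain ⟨m, rfl⟩ := hφ n
  obtain ⟨x, hx⟩ := (bijective_smul (ℓ := ℓg g M) (g := g) i k).2 (ℓg g M i m)
  refine ⟨x, (bijective_smul (ℓ := ℓg g N) (g := g) i k).1 ?_⟩
  simp only at hx ⊢
  rw [← map_smul, hx, smap_ℓg, hn]

variable (g) in
theorem exists_of_smap_eq_zero (φ : M →ₗ[A] N) {a : A} (hker : ∀ m, φ m = 0 → ∃ w, a • w = m) (i : Fin r)
    {y : Lg g M i} (h : smap φ _ y = 0) : ∃ w, y = a • w := by
  obtain ⟨k, m, hm⟩ := exists_pow_smul_mem (ℓ := ℓg g M) (g := g) i y
  have h0 : ℓg g N i (φ m) = ℓg g N i 0 := by rw [← smap_ℓg, ← hm, map_smul, h, smul_zero, map_zero]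
  obtain ⟨K, hK⟩ := exists_pow_smul_eq (g := g) h0
  rw [smul_zero, ← map_smul] at hK
  obtain ⟨v, hv⟩ := hker _ hK
  obtain ⟨w, hw⟩ := (bijective_smul (ℓ := ℓg g M) (g := g) i (K + k)).2 (ℓg g M i v)
  refine ⟨w, (bijective_smul (ℓ := ℓg g M) (g := g) i (K + k)).1 ?_⟩
  simp only at hw ⊢
  rw [smul_comm _ a, hw, ← map_smul, hv, map_smul, ← hm, pow_add, mul_smul]

end Cover

/-- Sections over the punctured spectrum are the limit over the powers of `f`. -/
theorem formalCohBijective_zero (𝔞 : Ideal A) (f : A) [IsAdicComplete (Ideal.span {f}) A]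
    (M : Type u) [AddCommGroup M] [Module A M] [Module.Finite A M]
    (h1 : KilledH 𝔞 f 1 M) (h2 : KilledH 𝔞 f 2 M) :
    Formal2.FormalCohBijective A (Ideal.span {f}) M 0 (LocCoh.puncturedOpen A 𝔞) := by
  obtain ⟨r, g, hg⟩ := Submodule.fg_iff_exists_fin_generating_family.1 (IsNoetherian.noetherian 𝔞)
  let q := fun n => Formal2.quotPowπ A (Ideal.span {f}) M n
  have hker : ∀ n m, q n m = 0 → ∃ w, f ^ (n + 1) • w = m := fun n m hm =>
    mem_span_pow_smul_top.1 ((Submodule.Quotient.mk_eq_zero _).1 hm)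
  have hzero : ∀ n m, q n (f ^ (n + 1) • m) = 0 := fun n m =>
    (Submodule.Quotient.mk_eq_zero _).2 (mem_span_pow_smul_top.2 ⟨m, rfl⟩)
  have hkill : ∀ n i (w : Lg g M i), smap (q n) _ (f ^ (n + 1) • w) = 0 := fun n i w => by
    obtain ⟨k, m, hm⟩ := exists_pow_smul_mem (ℓ := ℓg g M) (g := g) i w
    refine (bijective_smul (ℓ := ℓg g (Formal2.quotPow A (Ideal.span {f}) M n)) (g := g) i k).1 ?_
    simp only [smul_zero]
    rw [← map_smul, smul_comm, hm, ← map_smul, smap_ℓg, hzero, map_zero]
  constructor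
  · intro x x' h
    obtain ⟨z, rfl⟩ := (secHV M _).surjective x
    obtain ⟨z', rfl⟩ := (secHV M _).surjective x'
    refine congrArg _ (sub_eq_zero.1 (chart_injective hg (z' := 0) ?_))
    intro i
    have h0 : chart hg (z - z') = 0 := sec_separated (ℓ := ℓg g M) hg h1 (isSec_chart hg (z - z')) fun n j => by
      have hn : smap (q n) _ (z - z') = 0 := by
        have e := h n
        rw [HVmap_secHV, HVmap_secHV] at e
        rw [map_sub, sub_eq_zero]
        exact (secHV _ _).injective e
      obtain ⟨w, hw⟩ := exists_of_smap_eq_zero g (q n) (hker n) j (y := chart hg (z - z') j)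
        (by rw [smap_chart, hn]; exact map_zero _)
      exact ⟨f • w, by rw [hw, pow_succ, mul_smul]⟩
    rw [h0]
    exact (map_zero _).symm
  · intro y hy
    choose z hz using fun n => (secHV _ _).surjective (y n)
    choose x hx using fun n i => smap_surjective g (q n) (Submodule.mkQ_surjective _) i (chart hg (z n) i)
    obtain ⟨s, hs, hsx⟩ := exists_sec_limit (ℓ := ℓg g M) hg h1 h2 x (fun n => by
      have ha := (isApprox_bot (ℓ := ℓg g (Formal2.quotPow A (Ideal.span {f}) M n))).2 (isSec_chart hg (z n))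
      rw [← funext (hx n)] at ha
      have hΦ : ∀ i m, smap (q n) (D (A := CommRingCat.of A) (g i)) (ℓg g M i m) =
          ℓg g (Formal2.quotPow A (Ideal.span {f}) M n) i (q n m) := fun i m => smap_ℓg (q n) i m
      refine ((isApprox_map_iff hΦ).1 ha).mono ?_
      intro m hm
      obtain ⟨w, hw⟩ := hker n m ((Submodule.mem_bot A).1 hm)
      exact ⟨w, hw⟩) fun n i => by
      have ht : smap (Formal2.quotPowTrans A (Ideal.span {f}) M n) _ (z (n + 1)) = z n := by
        apply (secHV _ _).injective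
        rw [← HVmap_secHV, hz, hz]
        exact hy n
      have hc : ∀ (w : Lg g M i), smap (Formal2.quotPowTrans A (Ideal.span {f}) M n) _ (smap (q (n + 1)) _ w) =
          smap (q n) _ w := fun w => by
        obtain ⟨k, m, hm⟩ := exists_pow_smul_mem (ℓ := ℓg g M) (g := g) i w
        refine (bijective_smul (ℓ := ℓg g (Formal2.quotPow A (Ideal.span {f}) M n)) (g := g) i k).1 ?_
        simp only
        rw [← map_smul, ← map_smul, ← map_smul, hm, smap_ℓg, smap_ℓg, smap_ℓg]
        rfl
      obtain ⟨w, hw⟩ := exists_of_smap_eq_zero g (q n) (hker n) i (y := x (n + 1) i - x n i) (by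
        rw [map_sub, sub_eq_zero, hx n i, ← hc, hx, smap_chart, ht])
      exact ⟨w, by rw [← hw, add_sub_cancel]⟩
    obtain ⟨t, ht⟩ := exists_chart_eq hg hs
    refine ⟨secHV M _ t, fun n => ?_⟩
    rw [HVmap_secHV, ← hz n]
    refine congrArg _ (chart_injective hg fun i => ?_)
    obtain ⟨w, hw⟩ := hsx n i
    rw [← smap_chart, ht, hw, map_add, hkill, add_zero, hx]

end Groth.Agent.H9Lef

end
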