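import Groth.Agent.H9Lef.SecTransfer
import Groth.Agent.FormalPatch.Hypersurface
import Groth.Prelude.Def_SGA2

/-!
# Pure pairs at the closed point
-/

set_option autoImplicit false
set_option linter.style.haveILetI false

universe u

open CategoryTheory CategoryTheory.Limits AlgebraicGeometry IsLocalRing

attribute [-instance] CategoryTheory.catToReflQuiver

noncomputable section

namespace Groth.Agent.H9Lef

open Groth.Agent

set_option backward.isDefEq.respectTransparency false
set_option backward.isDefEq.respectTransparency.types false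

/-- Restriction along an isomorphism is an equivalence. -/
theorem isEquivalence_restrict_of_isIso {X Y : Scheme.{u}} (i : X ⟶ Y) [IsIso i] :
    (FEt.restrict i).IsEquivalence := by
  obtain ⟨h1, h2⟩ := Pi1X.restrict_fullyFaithful_of_homeo i
  obtain ⟨h3, h4⟩ := Pi1X.restrict_fullyFaithful_of_homeo (i ≫ inv i)
  haveI : (FEt.restrict i).EssSurj := ⟨fun Z => by
    have hp : FEt.prop (Z.hom ≫ i) := (MorphismProperty.cancel_right_of_respectsIso (P := FEt.prop) Z.hom i).2 Z.prop
    refine ⟨MorphismProperty.Over.mk ⊤ (Z.hom ≫ i) hp, ⟨?_⟩⟩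
    refine MorphismProperty.Over.isoMk (IsPullback.isoPullback (f := Z.hom ≫ i) (g := i) (fst := 𝟙 _) (snd := Z.hom)
      (IsPullback.of_horiz_isIso ⟨by simp⟩)).symm ?_
    exact IsPullback.isoPullback_inv_snd _⟩
  exact { }

theorem isEquivalence_restrict_comp {X Y Z : Scheme.{u}} (a : X ⟶ Y) (b : Y ⟶ Z)
    (ha : (FEt.restrict a).IsEquivalence) (hb : (FEt.restrict b).IsEquivalence) :
    (FEt.restrict (a ≫ b)).IsEquivalence :=
  haveI := ha
  haveI := hb
  haveI : (FEt.restrict b ⋙ FEt.restrict a).IsEquivalence := Functor.isEquivalence_trans _ _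
  @Functor.isEquivalence_of_iso _ _ _ _ _ _ (MorphismProperty.Over.pullbackComp (P := FEt.prop) (Q := ⊤) a b).symm this

theorem restrict_equivalence_of_comp {X Y Z : Scheme.{u}} (a : X ⟶ Y) (b : Y ⟶ Z)
    (ha : (FEt.restrict a).Full ∧ (FEt.restrict a).Faithful) (hab : (FEt.restrict (a ≫ b)).IsEquivalence) :
    (FEt.restrict b).IsEquivalence := by
  haveI := ha.1
  haveI := ha.2
  let e : FEt.restrict b ⋙ FEt.restrict a ≅ FEt.restrict (a ≫ b) :=
    (MorphismProperty.Over.pullbackComp (P := FEt.prop) (Q := ⊤) a b).symm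
  haveI : (FEt.restrict b).Faithful := Functor.Faithful.of_comp_iso e
  haveI : (FEt.restrict b).Full := Functor.Full.of_comp_faithful_iso e
  haveI : (FEt.restrict b).EssSurj := ⟨fun V => ⟨(FEt.restrict (a ≫ b)).objPreimage ((FEt.restrict a).obj V),
    ⟨(FEt.restrict a).preimageIso (e.app _ ≪≫ (FEt.restrict (a ≫ b)).objObjPreimageIso ((FEt.restrict a).obj V))⟩⟩⟩
  exact { }

theorem isPurePair_punctured_iff (A : Type u) [CommRing A] [IsLocalRing A] :
    SGA2.IsPurePair (Spec (CommRingCat.of A)) (FEt.puncturedSpec A) ↔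
      (FEt.restrict (FEt.puncturedSpec A).ι).IsEquivalence := by
  let X := Spec (CommRingCat.of A)
  let U := FEt.puncturedSpec A
  haveI : IsIso (X.homOfLE (inf_le_right : (⊤ : X.Opens) ⊓ U ≤ U)) := by
    refine (isIso_iff_isOpenImmersion_and_surjective _).2 ⟨inferInstance, ⟨fun x => ?_⟩⟩
    exact ⟨⟨x.1, ⟨trivial, x.2⟩⟩, Subtype.ext (by simp)⟩
  have hsq : X.homOfLE (inf_le_left : (⊤ : X.Opens) ⊓ U ≤ ⊤) ≫ (⊤ : X.Opens).ι =
      X.homOfLE (inf_le_right : (⊤ : X.Opens) ⊓ U ≤ U) ≫ U.ι :=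
    (Scheme.homOfLE_ι _ _).trans (Scheme.homOfLE_ι _ _).symm
  constructor
  · intro h
    have h1 : (FEt.restrict (X.homOfLE (inf_le_left : (⊤ : X.Opens) ⊓ U ≤ ⊤) ≫ (⊤ : X.Opens).ι)).IsEquivalence :=
      isEquivalence_restrict_comp _ _ (h ⊤) (isEquivalence_restrict_of_isIso X.topIso.hom)
    rw [hsq] at h1
    haveI := isEquivalence_restrict_of_isIso (X.homOfLE (inf_le_right : (⊤ : X.Opens) ⊓ U ≤ U))
    exact restrict_equivalence_of_comp _ _ ⟨inferInstance, inferInstance⟩ h1
  · intro h V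
    by_cases hV : IsLocalRing.closedPoint A ∈ V
    · have hV' : V = ⊤ := by
        ext x
        refine iff_of_true ?_ trivial
        exact ((PrimeSpectrum.le_iff_specializes x (IsLocalRing.closedPoint A)).1
          (IsLocalRing.le_maximalIdeal x.2.ne_top)).mem_open V.2 hV
      subst hV'
      have h1 : (FEt.restrict (X.homOfLE (inf_le_right : (⊤ : X.Opens) ⊓ U ≤ U) ≫ U.ι)).IsEquivalence :=
        isEquivalence_restrict_comp _ _ (isEquivalence_restrict_of_isIso _) h
      rw [← hsq] at h1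
      haveI := h1
      haveI := isEquivalence_restrict_of_isIso X.topIso.hom
      let e : FEt.restrict (⊤ : X.Opens).ι ⋙ FEt.restrict (X.homOfLE (inf_le_left : (⊤ : X.Opens) ⊓ U ≤ ⊤)) ≅
          FEt.restrict (X.homOfLE (inf_le_left : (⊤ : X.Opens) ⊓ U ≤ ⊤) ≫ (⊤ : X.Opens).ι) :=
        (MorphismProperty.Over.pullbackComp (P := FEt.prop) (Q := ⊤) _ _).symm
      haveI : (FEt.restrict (⊤ : X.Opens).ι).IsEquivalence := isEquivalence_restrict_of_isIso X.topIso.hom
      haveI : (FEt.restrict (⊤ : X.Opens).ι ⋙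
          FEt.restrict (X.homOfLE (inf_le_left : (⊤ : X.Opens) ⊓ U ≤ ⊤))).IsEquivalence :=
        Functor.isEquivalence_of_iso e.symm
      exact Functor.isEquivalence_of_comp_left (FEt.restrict (⊤ : X.Opens).ι) _
    · have hle : V ≤ V ⊓ U := fun x hx => ⟨hx, fun hxc => hV ((Set.mem_singleton_iff.1 hxc) ▸ hx)⟩
      haveI : IsIso (X.homOfLE (inf_le_left : V ⊓ U ≤ V)) := by
        refine (isIso_iff_isOpenImmersion_and_surjective _).2 ⟨inferInstance, ⟨fun x => ?_⟩⟩
        exact ⟨⟨x.1, hle x.2⟩, Subtype.ext (by simp)⟩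
      exact isEquivalence_restrict_of_isIso _

/-- Purity lifts from a hypersurface when restriction to it is fully faithful. -/
theorem isPurePair_of_quotient (A : Type u) [CommRing A] [IsNoetherianRing A] [IsLocalRing A] (f : A)
    (hf : f ∈ maximalIdeal A) [HenselianRing A (Ideal.span {f})] [IsLocalRing (A ⧸ Ideal.span {f})]
    (h1 : KilledH (maximalIdeal A) f 1 A) (h2 : KilledH (maximalIdeal A) f 2 A)
    (h : SGA2.IsPurePair (Spec (CommRingCat.of (A ⧸ Ideal.span {f}))) (FEt.puncturedSpec (A ⧸ Ideal.span {f}))) :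
    SGA2.IsPurePair (Spec (CommRingCat.of A)) (FEt.puncturedSpec A) := by
  rw [isPurePair_punctured_iff] at h ⊢
  obtain ⟨hF, hF'⟩ := restrict_completion A f hf h1 h2
  haveI := hF
  haveI := hF'
  have hG := FormalPatch.restrict_hypersurface A f hf
  let e := (isPullback_jP (Ideal.span {f})).isoPullback
  have hcomp : pullback.fst (FEt.puncturedSpec A).ι (qSpec (Ideal.span {f})) ≫ (FEt.puncturedSpec A).ι =
      e.inv ≫ (FEt.puncturedSpec (A ⧸ Ideal.span {f})).ι ≫ qSpec (Ideal.span {f}) := by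
    rw [pullback.condition, ← (isPullback_jP (Ideal.span {f})).isoPullback_inv_snd, Category.assoc]
  refine restrict_equivalence_of_comp _ _ hG ?_
  rw [hcomp]
  exact isEquivalence_restrict_comp _ _ (isEquivalence_restrict_of_isIso _)
    (isEquivalence_restrict_comp _ _ h (S0239.result A (Ideal.span {f})))

end Groth.Agent.H9Lef

end
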