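import Groth.Agent.H9Lef.SecLC
import Groth.Agent.H9Pur.Present
import Groth.Agent.LC.AdjDepthRows
import Groth.Agent.LC.HTensor

/-!
# Local cohomology of finite modules that are free on the punctured spectrum

If `H^1` and `H^2` of the ring are killed by a power of `f ∈ I`, so are those of an algebra which is finite,
and étale away from `I`.
-/

set_option autoImplicit false
set_option linter.style.haveILetI false

universe u

open CategoryTheory Limits Groth.Agent.Pi1Ext.RegPurity

noncomputable section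

namespace Groth.Agent.H9Lef

open Groth.Agent

variable {A : Type u} [CommRing A] [IsNoetherianRing A] {I : Ideal A} {f : A}

theorem killedH_zero (hf : f ∈ I) (N : Type u) [AddCommGroup N] [Module A N] [Module.Finite A N] :
    KilledH I f 0 N := by
  obtain ⟨k, hk⟩ := LC.AdjRows.exists_pow_kill_torsion I N
  refine ⟨k, fun z => (LC.H0Equiv I (ModuleCat.of A N)).injective ?_⟩
  rw [map_smul, map_zero]
  exact Subtype.ext (Submodule.mem_annihilator.1 (hk (Ideal.pow_mem_pow hf k)) _
    (LC.H0Equiv I (ModuleCat.of A N) z).2)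

omit [IsNoetherianRing A] in
theorem map_sum_apply (i : ℕ) {M N : ModuleCat.{u} A} {ι : Type*} (s : Finset ι) (φ : ι → (M ⟶ N))
    (z : (localCohomology I i).obj M) :
    ((localCohomology I i).map (∑ j ∈ s, φ j)).hom z = ∑ j ∈ s, ((localCohomology I i).map (φ j)).hom z := by
  classical
  induction s using Finset.induction_on with
  | empty => rw [Finset.sum_empty, Finset.sum_empty, LC.map_zero_apply]
  | insert a t ha ih => rw [Finset.sum_insert ha, Finset.sum_insert ha, LC.map_add_apply, ih]

omit [IsNoetherianRing A] in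
theorem killedH_pi {i : ℕ} (h : KilledH I f i A) (p : ℕ) : KilledH I f i (Fin p → A) := by
  classical
  obtain ⟨c, hc⟩ := h
  refine ⟨c, fun z => ?_⟩
  let e : Fin p → (ModuleCat.of A (Fin p → A) ⟶ ModuleCat.of A (Fin p → A)) := fun j =>
    ModuleCat.ofHom (LinearMap.proj j) ≫ ModuleCat.ofHom (LinearMap.single A (fun _ => A) j)
  have he : ∑ j, e j = 𝟙 (ModuleCat.of A (Fin p → A)) := by
    refine ModuleCat.hom_ext (LinearMap.ext fun v => ?_)
    rw [ModuleCat.hom_sum, LinearMap.coe_sum, Finset.sum_apply]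
    exact Finset.univ_sum_single v
  have h1 : z = ∑ j, ((localCohomology I i).map (e j)).hom z := by
    rw [← map_sum_apply, he, CategoryTheory.Functor.map_id]
    rfl
  rw [h1, Finset.smul_sum]
  refine Finset.sum_eq_zero fun j _ => ?_
  rw [CategoryTheory.Functor.map_comp, ModuleCat.comp_apply, ← map_smul, hc, map_zero]

variable {r : ℕ} {g : Fin r → A} (hg : Ideal.span (Set.range g) = I)

include hg in
theorem isPowerTorsion_of_forall {T : Type u} [AddCommGroup T] [Module A T]
    (h : ∀ (i : Fin r) (t : T), ∃ M, g i ^ M • t = 0) : LocCoh.IsPowerTorsion I T := by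
  intro t
  choose M hM using fun i => h i t
  obtain ⟨n, hn⟩ : ∃ n, I ^ n ≤ Ideal.span (Set.range fun j => g j ^ M j) := Ideal.exists_pow_le_of_le_radical_of_fg (by
    rw [← hg, Ideal.span_le]
    rintro _ ⟨j, rfl⟩
    exact ⟨M j, Ideal.subset_span ⟨j, rfl⟩⟩) (IsNoetherian.noetherian I)
  refine ⟨n, fun a ha => ?_⟩
  have key : ∀ c ∈ Ideal.span (Set.range fun j => g j ^ M j), c • t = 0 := fun c hc => by
    induction hc using Submodule.span_induction with
    | mem c hc' =>
      obtain ⟨j, rfl⟩ := hc'
      exact hM j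
    | zero => rw [zero_smul]
    | add _ _ _ _ h h' => rw [add_smul, h, h', add_zero]
    | smul _ _ _ h => rw [smul_assoc, h, smul_zero]
  exact key _ (hn ha)

variable (hf : f ∈ I) (h1 : KilledH I f 1 A) (h2 : KilledH I f 2 A)
  (C : Type u) [CommRing C] [Algebra A C] [Module.Finite A C] (hC : ∀ i, EtAway A C (g i))

include hg hf h1 h2 hC in
/-- `H^1` and `H^2` of an algebra étale away from `I`. -/
theorem killedH_algebra : KilledH I f 1 C ∧ KilledH I f 2 C := by
  obtain ⟨p, q, ε, a, aε, H⟩ := H9Pur.exists_hull_data (R := A) (C := C)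
  choose M s t hs ht using fun i => H (g i) (hC i)
  -- the kernel of `a`
  let π : (Fin p → A) →ₗ[A] LinearMap.range a := a.rangeRestrict
  let j : LinearMap.range a →ₗ[A] (Fin q → A) := (LinearMap.range a).subtype
  have hS := surjSeq_shortExact (M := Fin p → A) (N := ↥(LinearMap.range a)) π a.surjective_rangeRestrict
  have hT := injSeq_shortExact (M := ↥(LinearMap.range a)) (N := Fin q → A) j Subtype.val_injective
  have hW1 : KilledH I f 1 (LinearMap.range a) := killedBy_of_exact f (LC.exact₁ I 0 hT 1 rfl)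
    (killedH_zero hf _) (killedH_pi h1 q)
  have hK1 : KilledH I f 1 (LinearMap.ker π) :=
    killedBy_of_exact f (LC.exact₁ I 0 hS 1 rfl) (killedH_zero hf _) (killedH_pi h1 p)
  have hK2 : KilledH I f 2 (LinearMap.ker π) :=
    killedBy_of_exact f (LC.exact₁ I 1 hS 2 rfl) hW1 (killedH_pi h2 p)
  -- the algebra maps onto it up to torsion
  let θ : C →ₗ[A] LinearMap.ker π := LinearMap.codRestrict _ ε fun c => LinearMap.mem_ker.2 (Subtype.ext (aε c))
  let π' : C →ₗ[A] LinearMap.range θ := θ.rangeRestrict
  let j' : LinearMap.range θ →ₗ[A] LinearMap.ker π := (LinearMap.range θ).subtype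
  have hS' := surjSeq_shortExact (M := C) (N := ↥(LinearMap.range θ)) π' θ.surjective_rangeRestrict
  have hT' := injSeq_shortExact (M := ↥(LinearMap.range θ)) (N := ↥(LinearMap.ker π)) j' Subtype.val_injective
  have htk : LocCoh.IsPowerTorsion I (LinearMap.ker π') := isPowerTorsion_of_forall hg fun i x => ⟨M i, by
    refine Subtype.ext ?_
    show g i ^ M i • x.1 = 0
    have hx : ε x.1 = 0 := congrArg (fun v : LinearMap.range θ => (v.1.1 : Fin p → A)) (LinearMap.mem_ker.1 x.2)
    rw [← hs i, hx, map_zero]⟩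
  have htc : LocCoh.IsPowerTorsion I (LinearMap.ker π ⧸ LinearMap.range j') :=
    isPowerTorsion_of_forall hg fun i x => ⟨M i, by
    obtain ⟨v, rfl⟩ := Submodule.mkQ_surjective _ x
    rw [← map_smul, Submodule.mkQ_apply, Submodule.Quotient.mk_eq_zero, Submodule.range_subtype]
    refine ⟨s i v.1, Subtype.ext ?_⟩
    have hv : a v.1 = 0 := congrArg Subtype.val (LinearMap.mem_ker.1 v.2)
    have := ht i v.1
    rw [hv, map_zero, add_zero] at this
    exact this⟩
  haveI hk1 := LC.subsingleton_of_torsion I 0 (ModuleCat.of A (LinearMap.ker π')) htk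
  haveI hk2 := LC.subsingleton_of_torsion I 1 (ModuleCat.of A (LinearMap.ker π')) htk
  haveI hc1 := LC.subsingleton_of_torsion I 0 (ModuleCat.of A (LinearMap.ker π ⧸ LinearMap.range j')) htc
  refine ⟨killedBy_of_exact f (LC.exact₂ I 1 hS') ⟨0, fun z => Subsingleton.elim _ _⟩
    (killedBy_of_exact f (LC.exact₁ I 0 hT' 1 rfl) (killedH_zero hf _) hK1), ?_⟩
  exact killedBy_of_exact f (LC.exact₂ I 2 hS') ⟨0, fun z => Subsingleton.elim _ _⟩
    (killedBy_of_exact f (LC.exact₁ I 1 hT' 2 rfl) ⟨0, fun z => Subsingleton.elim _ _⟩ hK2)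

end Groth.Agent.H9Lef

end
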