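import Groth.Agent.H9Lef.SecLimit
import Groth.Agent.H9Lef.SecModule
import Groth.Agent.H9Pur.SectHom

/-!
# Maps to the algebra of sections lift from the reduction modulo `f`
-/

set_option autoImplicit false
set_option linter.style.haveILetI false

universe u

noncomputable section

namespace Groth.Agent.H9Lef

open Groth.Agent Groth.Agent.H9Pur Groth.Agent.Pi1Ext.RegPurity

variable {A : Type u} [CommRing A]

/-- The map to functions on a standard open, linearly. -/
abbrev lC (C : Type u) [CommRing C] [Algebra A C] (g : A) : C →ₗ[A] H9Pur.L C g :=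
  (IsScalarTower.toAlgHom A C (H9Pur.L C g)).toLinearMap

theorem isLocalizedModule_lC (C : Type u) [CommRing C] [Algebra A C] (g : A) :
    IsLocalizedModule (Submonoid.powers g) (lC C g) := by
  refine isLocalizedModule_iff_isLocalization.2 ?_
  rw [Algebra.algebraMapSubmonoid_powers]
  infer_instance

instance instIsLocalizedModuleLC (C : Type u) [CommRing C] [Algebra A C] {r : ℕ} (g : Fin r → A) (i : Fin r) :
    IsLocalizedModule (Submonoid.powers (g i)) ((fun j => lC C (g j)) i) :=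
  isLocalizedModule_lC C (g i)

theorem isUnit_L' {C : Type u} [CommRing C] [Algebra A C] (g : A) : IsUnit (algebraMap A (H9Pur.L C g) g) :=
  H9Pur.isUnit_L g

/-- The algebra of sections. -/
def secAlg (C : Type u) [CommRing C] [Algebra A C] {r : ℕ} (g : Fin r → A) :
    Subalgebra A (∀ i, H9Pur.L C (g i)) :=
  Submodule.toSubalgebra (secSub (fun i => lC C (g i)) g)
    ⟨0, fun _ => 1, fun i => by simp, fun i j => by simp⟩
    (by
      rintro x y ⟨k, m, h1, h2⟩ ⟨k', m', h1', h2'⟩
      refine ⟨k + k', fun i => m i * m' i, fun i => ?_, fun i j => ?_⟩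
      · show g i ^ (k + k') • (x i * y i) = algebraMap C (H9Pur.L C (g i)) (m i * m' i)
        rw [map_mul, pow_add, ← smul_mul_smul_comm]
        exact congrArg₂ (· * ·) (h1 i) (h1' i)
      · rw [pow_add, pow_add, ← smul_mul_smul_comm, ← smul_mul_smul_comm, h2, h2'])

variable {C C' : Type u} [CommRing C] [Algebra A C] [CommRing C'] [Algebra A C'] {r : ℕ} {g : Fin r → A}

theorem mem_secAlg {x : ∀ i, H9Pur.L C (g i)} : x ∈ secAlg C g ↔ IsSec (fun i => lC C (g i)) g x := Iff.rfl

/-- Extend a map to functions on a standard open. -/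
def extL {D : Type u} [CommRing D] [Algebra A D] (g : A) (hu : IsUnit (algebraMap A D g)) (φ : C' →ₐ[A] D) :
    H9Pur.L C' g →ₐ[A] D :=
  IsLocalization.liftAlgHom (M := Submonoid.powers (algebraMap A C' g)) (f := φ) (by
    rintro ⟨_, n, rfl⟩
    simp only [map_pow, AlgHom.commutes]
    exact hu.pow n)

theorem extL_algebraMap {D : Type u} [CommRing D] [Algebra A D] (g : A) (hu : IsUnit (algebraMap A D g))
    (φ : C' →ₐ[A] D) (c : C') : extL g hu φ (algebraMap C' (H9Pur.L C' g) c) = φ c := by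
  unfold extL
  exact IsLocalization.lift_eq _ c

theorem ext_L {D : Type u} [CommRing D] [Algebra A D] {g : A} {φ ψ : H9Pur.L C' g →ₐ[A] D}
    (h : ∀ c, φ (algebraMap C' (H9Pur.L C' g) c) = ψ (algebraMap C' (H9Pur.L C' g) c)) (z : H9Pur.L C' g) :
    φ z = ψ z :=
  RingHom.congr_fun (IsLocalization.ringHom_ext (Submonoid.powers (algebraMap A C' g))
    (j := φ.toRingHom) (k := ψ.toRingHom) (RingHom.ext h)) z

variable {f : A}

theorem mem_Th_iff {n : ℕ} {g : A} {x : H9Pur.L C g} :
    x ∈ Th (Ideal.span {f}) C n g ↔ ∃ w, f ^ (n + 1) • w = x := by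
  rw [Th, Ideal.span_singleton_pow, Ideal.map_span, Set.image_singleton, Ideal.mem_span_singleton']
  exact exists_congr fun w => by rw [Algebra.smul_def, mul_comm]

theorem isUnit_TQ (n : ℕ) {g g' : A} (h : IsUnit (algebraMap A (H9Pur.L C g) g')) :
    IsUnit (algebraMap A (TQ (Ideal.span {f}) C n g) g') := by
  rw [← (tq (Ideal.span {f}) n g).commutes g']
  exact h.map (tq (Ideal.span {f}) n g)

variable (f) in
theorem isApprox_of_res_eq [IsNoetherianRing A] {n : ℕ} {x : ∀ i, H9Pur.L C (g i)}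
    (h : ∀ i j, tres (Ideal.span {f}) (res₁ (g i) (g j)) n (tq _ n (g i) (x i)) =
      tres (Ideal.span {f}) (res₂ (g i) (g j)) n (tq _ n (g j) (x j))) :
    IsApprox (fun i => lC C (g i)) g (LinearMap.range (LinearMap.lsmul A C (f ^ (n + 1)))) x := by
  obtain ⟨k, m, hm⟩ := exists_frac (ℓ := fun i => lC C (g i)) (g := g) x
  have key : ∀ i j, ∃ K, ∃ d, (g i * g j) ^ K • (g j ^ k • m i - g i ^ k • m j) = f ^ (n + 1) • d := by
    intro i j
    have h1 := h i j
    rw [tres_tq, tres_tq, Ideal.Quotient.mkₐ_eq_mk, Ideal.Quotient.eq] at h1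
    have hi : g i ^ k • res₁ (g i) (g j) (x i) = algebraMap C (H9Pur.L C (g i * g j)) (m i) :=
      ((map_smul ((res₁ (C := C) (g i) (g j)).restrictScalars A).toLinearMap _ _).symm.trans
        (congrArg ((res₁ (C := C) (g i) (g j)).restrictScalars A).toLinearMap (hm i))).trans
          ((res₁ (C := C) (g i) (g j)).commutes (m i))
    have hj : g j ^ k • res₂ (g i) (g j) (x j) = algebraMap C (H9Pur.L C (g i * g j)) (m j) :=
      ((map_smul ((res₂ (C := C) (g i) (g j)).restrictScalars A).toLinearMap _ _).symm.trans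
        (congrArg ((res₂ (C := C) (g i) (g j)).restrictScalars A).toLinearMap (hm j))).trans
          ((res₂ (C := C) (g i) (g j)).commutes (m j))
    have h2 : algebraMap C (H9Pur.L C (g i * g j)) (g j ^ k • m i - g i ^ k • m j) ∈
        (Ideal.span {f} ^ (n + 1)).map (algebraMap A (H9Pur.L C (g i * g j))) := by
      rw [show algebraMap C (H9Pur.L C (g i * g j)) (g j ^ k • m i - g i ^ k • m j) =
          g j ^ k • algebraMap C (H9Pur.L C (g i * g j)) (m i) - g i ^ k • algebraMap C (H9Pur.L C (g i * g j)) (m j)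
          from (map_sub (lC C (g i * g j)) _ _).trans (by rw [map_smul, map_smul]; rfl),
        ← hi, ← hj, smul_smul, smul_smul,
        mul_comm (g i ^ k) (g j ^ k), ← smul_sub, Algebra.smul_def]
      exact Ideal.mul_mem_left _ _ h1
    obtain ⟨K, hK⟩ := of_map_L_mem h2
    rw [Ideal.span_singleton_pow, Ideal.map_span, Set.image_singleton, Ideal.mem_span_singleton'] at hK
    obtain ⟨d, hd⟩ := hK
    exact ⟨K, d, by rw [← hd, Algebra.smul_def (f ^ (n + 1)) d, mul_comm]⟩
  choose K d hd using key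
  refine (isApprox_iff hm).2 ⟨Finset.univ.sup (fun p : Fin r × Fin r => K p.1 p.2), fun i j => ?_⟩
  obtain ⟨e, he⟩ := Nat.exists_eq_add_of_le
    (Finset.le_sup (f := fun p : Fin r × Fin r => K p.1 p.2) (Finset.mem_univ (i, j)))
  rw [he, add_comm _ e, pow_add _ e, mul_smul, hd, smul_comm]
  exact ⟨_, rfl⟩

theorem tred_self {J : Ideal A} {n : ℕ} {g : A} (y : TQ J C n g) : tred J g (le_refl n) y = y := by
  obtain ⟨z, hz⟩ : ∃ z, tq J n g z = y := Ideal.Quotient.mk_surjective y
  rw [← hz, tred_tq]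

variable [IsNoetherianRing A] [IsAdicComplete (Ideal.span {f}) A] [Module.Finite A C] {I : Ideal A}
  (hg : Ideal.span (Set.range g) = I) (h1 : KilledH I f 1 C) (h2 : KilledH I f 2 C)
  (hC' : ∀ i, EtAway A C' (g i))

include hg h1 in
theorem secAlg_ext {a b : secAlg C g} (h : ∀ n i, tq (Ideal.span {f}) n (g i) (a.1 i) = tq (Ideal.span {f}) n (g i) (b.1 i)) :
    a = b := by
  refine Subtype.ext (sub_eq_zero.1 (sec_separated (ℓ := fun i => lC C (g i)) hg h1
    ((secSub (fun i => lC C (g i)) g).sub_mem a.2 b.2) fun n i => ?_))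
  have h0 := h n i
  rw [Ideal.Quotient.mkₐ_eq_mk, Ideal.Quotient.eq, mem_Th_iff] at h0
  obtain ⟨w, hw⟩ := h0
  exact ⟨f • w, by rw [Pi.sub_apply, ← hw, smul_smul, ← pow_succ]⟩

include hg h1 hC' in
/-- A map to sections is determined by its reduction. -/
theorem secHom_ext (Ψ Φ : C' →ₐ[A] secAlg C g)
    (h : ∀ i c, tq (Ideal.span {f}) 0 (g i) ((Ψ c).1 i) = tq (Ideal.span {f}) 0 (g i) ((Φ c).1 i)) : Ψ = Φ := by
  refine AlgHom.ext fun c => secAlg_ext hg h1 fun n i => ?_
  let comp : (C' →ₐ[A] secAlg C g) → (C' →ₐ[A] TQ (Ideal.span {f}) C n (g i)) := fun T =>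
    (tq (Ideal.span {f}) n (g i)).comp
      ((Pi.evalAlgHom A (fun j => H9Pur.L C (g j)) i).comp ((secAlg C g).val.comp T))
  have hu := isUnit_TQ (f := f) n (isUnit_L' (C := C) (g i))
  have he := tlift_unique (Ideal.span {f}) n (hC' i) (extL (g i) hu (comp Ψ)) (extL (g i) hu (comp Φ))
    (fun z => ext_L (φ := (tred (Ideal.span {f}) (g i) (Nat.zero_le n)).comp (extL (g i) hu (comp Ψ)))
      (ψ := (tred (Ideal.span {f}) (g i) (Nat.zero_le n)).comp (extL (g i) hu (comp Φ))) (fun c => by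
        rw [AlgHom.comp_apply, AlgHom.comp_apply, extL_algebraMap, extL_algebraMap]
        exact h i c) z) (algebraMap C' _ c)
  rw [extL_algebraMap, extL_algebraMap] at he
  exact he

include hg h1 h2 in
theorem exists_secElt (y : ∀ n i, TQ (Ideal.span {f}) C n (g i))
    (hy : ∀ n i j, tres (Ideal.span {f}) (res₁ (g i) (g j)) n (y n i) =
      tres (Ideal.span {f}) (res₂ (g i) (g j)) n (y n j))
    (hyy : ∀ n i, tred (Ideal.span {f}) (g i) n.le_succ (y (n + 1) i) = y n i) :
    ∃ s : secAlg C g, ∀ n i, tq (Ideal.span {f}) n (g i) (s.1 i) = y n i := by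
  choose x hx using fun n i => Ideal.Quotient.mk_surjective (y n i)
  have hxy : ∀ n i, tq (Ideal.span {f}) n (g i) (x n i) = y n i := hx
  obtain ⟨s, hs, hsx⟩ := exists_sec_limit (ℓ := fun i => lC C (g i)) (f := f) hg h1 h2 x
    (fun n => isApprox_of_res_eq f fun i j => by rw [hxy, hxy]; exact hy n i j) (fun n i => by
      have h0 : tq (Ideal.span {f}) n (g i) (x (n + 1) i) = tq (Ideal.span {f}) n (g i) (x n i) := by
        rw [hxy, ← tred_tq (Ideal.span {f}) (g i) n.le_succ, hxy]
        exact hyy n i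
      rw [Ideal.Quotient.mkₐ_eq_mk, Ideal.Quotient.eq, mem_Th_iff] at h0
      obtain ⟨w, hw⟩ := h0
      exact ⟨w, by rw [hw]; abel⟩)
  refine ⟨⟨s, hs⟩, fun n i => ?_⟩
  obtain ⟨w, hw⟩ := hsx n i
  rw [← hxy n i, Ideal.Quotient.mkₐ_eq_mk, Ideal.Quotient.eq, mem_Th_iff]
  exact ⟨w, (sub_eq_of_eq_add' hw).symm⟩

include hg h1 h2 in
theorem exists_secHom_of_lifts (T : ∀ (n : ℕ) (i : Fin r), H9Pur.L C' (g i) →ₐ[A] TQ (Ideal.span {f}) C n (g i))
    (hT : ∀ n i j c, tres (Ideal.span {f}) (res₁ (g i) (g j)) n (T n i (algebraMap C' _ c)) =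
      tres (Ideal.span {f}) (res₂ (g i) (g j)) n (T n j (algebraMap C' _ c)))
    (hTT : ∀ n i c, tred (Ideal.span {f}) (g i) n.le_succ (T (n + 1) i (algebraMap C' _ c)) =
      T n i (algebraMap C' _ c)) :
    ∃ Ψ : C' →ₐ[A] secAlg C g, ∀ n i c, tq (Ideal.span {f}) n (g i) ((Ψ c).1 i) = T n i (algebraMap C' _ c) := by
  choose s hs using fun c => exists_secElt hg h1 h2 (fun n i => T n i (algebraMap C' _ c))
    (fun n i j => hT n i j c) (fun n i => hTT n i c)
  have h1' : s 1 = 1 := secAlg_ext hg h1 fun n i => by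
    rw [hs, map_one, map_one]
    exact (map_one (tq (Ideal.span {f}) n (g i))).symm
  have hm : ∀ a b, s (a * b) = s a * s b := fun a b => secAlg_ext hg h1 fun n i =>
    (hs (a * b) n i).trans ((congrArg (T n i) ((algebraMap C' (H9Pur.L C' (g i))).map_mul a b)).trans
      ((map_mul (T n i) _ _).trans ((congrArg₂ (· * ·) (hs a n i) (hs b n i)).symm.trans
        (map_mul (tq (Ideal.span {f}) n (g i)) ((s a).1 i) ((s b).1 i)).symm)))
  have hadd : ∀ a b, s (a + b) = s a + s b := fun a b => secAlg_ext hg h1 fun n i =>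
    (hs (a + b) n i).trans ((congrArg (T n i) ((algebraMap C' (H9Pur.L C' (g i))).map_add a b)).trans
      ((map_add (T n i) _ _).trans ((congrArg₂ (· + ·) (hs a n i) (hs b n i)).symm.trans
        (map_add (tq (Ideal.span {f}) n (g i)) ((s a).1 i) ((s b).1 i)).symm)))
  have hc : ∀ a : A, s (algebraMap A C' a) = algebraMap A (secAlg C g) a := fun a => secAlg_ext hg h1 fun n i => by
    rw [hs, ← IsScalarTower.algebraMap_apply A C' (H9Pur.L C' (g i)), AlgHom.commutes]
    exact ((tq (Ideal.span {f}) n (g i)).commutes a).symm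
  have h0 : s 0 = 0 := by have := hc 0; rwa [map_zero, map_zero] at this
  exact ⟨{ toFun := s, map_one' := h1', map_mul' := hm, map_zero' := h0, map_add' := hadd, commutes' := hc },
    fun n i c => hs c n i⟩

include hg h1 h2 hC' in
/-- A compatible family of maps modulo `f` lifts to a map to sections. -/
theorem exists_secHom (hC'' : ∀ i j, EtAway A C' (g i * g j))
    (u : ∀ i, H9Pur.L C' (g i) →ₐ[A] TQ (Ideal.span {f}) C 0 (g i))
    (hu : ∀ i j c, tres (Ideal.span {f}) (res₁ (g i) (g j)) 0 (u i (algebraMap C' _ c)) =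
      tres (Ideal.span {f}) (res₂ (g i) (g j)) 0 (u j (algebraMap C' _ c))) :
    ∃ Ψ : C' →ₐ[A] secAlg C g, ∀ i c, tq (Ideal.span {f}) 0 (g i) ((Ψ c).1 i) = u i (algebraMap C' _ c) := by
  let J : Ideal A := Ideal.span {f}
  let T : ∀ (n : ℕ) (i : Fin r), H9Pur.L C' (g i) →ₐ[A] TQ J C n (g i) := fun n i => tlift J n (g i) (hC' i) (u i)
  -- the lifts agree on the overlaps
  have hT : ∀ n i j c, tres J (res₁ (g i) (g j)) n (T n i (algebraMap C' _ c)) =
      tres J (res₂ (g i) (g j)) n (T n j (algebraMap C' _ c)) := fun n i j c => by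
    let a₁ : C' →ₐ[A] TQ J C n (g i * g j) :=
      ((tres J (res₁ (g i) (g j)) n).comp (T n i)).comp (IsScalarTower.toAlgHom A C' (H9Pur.L C' (g i)))
    let a₂ : C' →ₐ[A] TQ J C n (g i * g j) :=
      ((tres J (res₂ (g i) (g j)) n).comp (T n j)).comp (IsScalarTower.toAlgHom A C' (H9Pur.L C' (g j)))
    have hunit := isUnit_TQ (f := f) n (isUnit_L' (C := C) (g i * g j))
    have he := tlift_unique J n (hC'' i j) (extL (g i * g j) hunit a₁) (extL (g i * g j) hunit a₂)
      (fun z => ext_L (φ := (tred J (g i * g j) (Nat.zero_le n)).comp (extL (g i * g j) hunit a₁))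
        (ψ := (tred J (g i * g j) (Nat.zero_le n)).comp (extL (g i * g j) hunit a₂)) (fun c' => by
          rw [AlgHom.comp_apply, AlgHom.comp_apply, extL_algebraMap, extL_algebraMap]
          show tred J _ _ (tres J _ n (T n i _)) = tred J _ _ (tres J _ n (T n j _))
          rw [tred_tres, tred_tres, tred_tlift, tred_tlift]
          exact hu i j c') z) (algebraMap C' _ c)
    rw [extL_algebraMap, extL_algebraMap] at he
    exact he
  obtain ⟨Ψ, hΨ⟩ := exists_secHom_of_lifts hg h1 h2 T hT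
    (fun n i c => tred_tlift' J n.le_succ (g i) (hC' i) (u i) _)
  exact ⟨Ψ, fun i c => ((hΨ 0 i c).trans (tred_self _).symm).trans (tred_tlift J 0 (g i) (hC' i) (u i) _)⟩

end Groth.Agent.H9Lef

end
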