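import Groth.Agent.H9Lef.SecFF
import Groth.Agent.Pi1X.FEtFull
import Groth.Agent.S0239

/-!
# Full faithfulness for covers, and extension over the completion
-/

set_option autoImplicit false
set_option linter.style.haveILetI false

universe u

open CategoryTheory CategoryTheory.Limits AlgebraicGeometry IsLocalRing Groth.Agent.Pi1Ext.RegPurity
  Groth.Agent.Pi1Ext.PuritySch

attribute [-instance] CategoryTheory.catToReflQuiver

noncomputable section

namespace Groth.Agent.H9Lef

open Groth.Agent Groth.Agent.H9Pur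

set_option backward.isDefEq.respectTransparency false
set_option backward.isDefEq.respectTransparency.types false

/-- Restriction along the reduction of punctured spectra is fully faithful. -/
theorem restrict_jP (A : Type u) [CommRing A] [IsNoetherianRing A] [IsLocalRing A] (f : A)
    [IsAdicComplete (Ideal.span {f}) A] [IsLocalRing (A ⧸ Ideal.span {f})] (hf : f ∈ maximalIdeal A)
    (h1 : KilledH (maximalIdeal A) f 1 A) (h2 : KilledH (maximalIdeal A) f 2 A) :
    (FEt.restrict (jP (Ideal.span {f}))).Full ∧ (FEt.restrict (jP (Ideal.span {f}))).Faithful := by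
  obtain ⟨r, g, hg⟩ := Submodule.fg_iff_exists_fin_generating_family.1 (IsNoetherian.noetherian (maximalIdeal A))
  have hg' : Ideal.span (Set.range g) = maximalIdeal A := hg
  let F := FEt.restrict (jP (Ideal.span {f}))
  refine ⟨⟨fun {Y Z} ψ => ?_⟩, ⟨fun {Y Z a b} hab => ?_⟩⟩
  · obtain ⟨C, _, _, _, hC, ⟨eY⟩⟩ := exists_finite_model Y
    obtain ⟨B, _, _, _, hB, ⟨eZ⟩⟩ := exists_finite_model Z
    let ψ' : F.obj (obj C (prop_rest C hC)) ⟶ F.obj (obj B (prop_rest B hB)) := F.map eY.hom ≫ ψ ≫ F.map eZ.inv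
    obtain ⟨a, ha, hfst⟩ := red_surjective hg' hf h1 h2 hB hC ψ'.left (MorphismProperty.Over.w ψ')
    let φ : obj C (prop_rest C hC) ⟶ obj B (prop_rest B hB) := MorphismProperty.Over.homMk a ha
    have hφ : F.map φ = ψ' := by
      refine MorphismProperty.Over.Hom.ext ?_
      show pullback.lift (pullback.fst (rest A C) (jP (Ideal.span {f})) ≫ a)
        (pullback.snd (rest A C) (jP (Ideal.span {f}))) _ = ψ'.left
      refine pullback.hom_ext ?_ ?_
      · exact (pullback.lift_fst _ _ _).trans hfst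
      · exact (pullback.lift_snd _ _ _).trans (MorphismProperty.Over.w ψ').symm
    refine ⟨eY.inv ≫ φ ≫ eZ.hom, ?_⟩
    show F.map _ = ψ
    rw [F.map_comp, F.map_comp, hφ]
    simp only [ψ', Category.assoc, ← F.map_comp, Iso.inv_hom_id, F.map_id]
    rw [← Category.assoc, ← F.map_comp, Iso.inv_hom_id, F.map_id, Category.id_comp]
    exact Category.comp_id _
  · obtain ⟨C, _, _, _, hC, ⟨eY⟩⟩ := exists_finite_model Y
    obtain ⟨B, _, _, _, hB, ⟨eZ⟩⟩ := exists_finite_model Z
    let a' : obj C (prop_rest C hC) ⟶ obj B (prop_rest B hB) := eY.hom ≫ a ≫ eZ.inv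
    let b' : obj C (prop_rest C hC) ⟶ obj B (prop_rest B hB) := eY.hom ≫ b ≫ eZ.inv
    have hab' : F.map a' = F.map b' := by simp only [a', b', F.map_comp, hab, F]
    have key : ∀ e : obj C (prop_rest C hC) ⟶ obj B (prop_rest B hB),
        (F.map e).left ≫ pullback.fst (rest A B) (jP (Ideal.span {f})) =
          pullback.fst (rest A C) (jP (Ideal.span {f})) ≫ e.left := fun e => pullback.lift_fst _ _ _
    have h := red_injective hg' hf h1 h2 hB hC a'.left b'.left (MorphismProperty.Over.w a')
      (MorphismProperty.Over.w b') (by rw [← key, ← key, hab'])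
    have h' : a' = b' := MorphismProperty.Over.Hom.ext h
    rw [← cancel_epi eY.hom, ← cancel_mono eZ.inv, Category.assoc, Category.assoc]
    exact h'

variable {A : Type u} [CommRing A] [IsLocalRing A] {R : Type u} [CommRing R] [IsLocalRing R] [Algebra A R]
  (hmax : (maximalIdeal A).map (algebraMap A R) = maximalIdeal R)

include hmax in
theorem sp_preimage : sp A R ⁻¹ᵁ FEt.puncturedSpec A = FEt.puncturedSpec R := by
  ext x
  show PrimeSpectrum.comap (algebraMap A R) x ≠ closedPoint A ↔ x ≠ closedPoint R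
  refine not_congr ⟨fun h => PrimeSpectrum.ext ?_, fun h => ?_⟩
  · refine ((maximalIdeal.isMaximal R).eq_of_le x.2.ne_top ?_).symm
    rw [← hmax, Ideal.map_le_iff_le_comap]
    exact (congrArg PrimeSpectrum.asIdeal h).ge
  · subst h
    refine PrimeSpectrum.ext ((maximalIdeal.isMaximal A).eq_of_le (Ideal.IsPrime.ne_top inferInstance) ?_).symm
    show maximalIdeal A ≤ (maximalIdeal R).comap (algebraMap A R)
    rw [← Ideal.map_le_iff_le_comap, hmax]

/-- The map of punctured spectra given by a local homomorphism. -/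
def jR : (FEt.puncturedSpec R : Scheme.{u}) ⟶ (FEt.puncturedSpec A : Scheme.{u}) :=
  IsOpenImmersion.lift (FEt.puncturedSpec A).ι ((FEt.puncturedSpec R).ι ≫ sp A R) (by
    rw [Scheme.Opens.range_ι]
    rintro _ ⟨x, rfl⟩
    have h : (FEt.puncturedSpec R).ι x ∈ sp A R ⁻¹ᵁ FEt.puncturedSpec A := by
      rw [sp_preimage hmax]; exact x.2
    exact h)

theorem isPullback_jR :
    IsPullback (jR hmax) (FEt.puncturedSpec R).ι (FEt.puncturedSpec A).ι (sp A R) :=
  IsOpenImmersion.isPullback _ _ _ _ (IsOpenImmersion.lift_fac _ _ _).symm (by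
    rw [Scheme.Opens.opensRange_ι, Scheme.Opens.opensRange_ι, sp_preimage hmax])

theorem restrict_comp {X Y Z : Scheme.{u}} (a : X ⟶ Y) (b : Y ⟶ Z) (ha : (FEt.restrict a).Full ∧ (FEt.restrict a).Faithful)
    (hb : (FEt.restrict b).Full ∧ (FEt.restrict b).Faithful) :
    (FEt.restrict (a ≫ b)).Full ∧ (FEt.restrict (a ≫ b)).Faithful := by
  haveI := ha.1
  haveI := ha.2
  haveI := hb.1
  haveI := hb.2
  let e : FEt.restrict b ⋙ FEt.restrict a ≅ FEt.restrict (a ≫ b) :=
    (MorphismProperty.Over.pullbackComp (P := FEt.prop) (Q := ⊤) a b).symm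
  exact ⟨Functor.Full.of_iso e, Functor.Faithful.of_iso e⟩

variable (f : A) [IsLocalRing (R ⧸ Ideal.span {algebraMap A R f})]

/-- The map of reductions. -/
def redMap : A ⧸ Ideal.span {f} →+* R ⧸ Ideal.span {algebraMap A R f} :=
  Ideal.quotientMap _ (algebraMap A R) (by
    rw [Ideal.span_singleton_le_iff_mem, Ideal.mem_comap]
    exact Ideal.mem_span_singleton_self _)

omit [IsLocalRing A] [IsLocalRing R] [IsLocalRing (R ⧸ Ideal.span {algebraMap A R f})] in
theorem redMap_sq : Spec.map (CommRingCat.ofHom (redMap (R := R) f)) ≫ qSpec (Ideal.span {f}) =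
    qSpec (Ideal.span {algebraMap A R f}) ≫ sp A R := by
  rw [← Spec.map_comp, ← Spec.map_comp, ← CommRingCat.ofHom_comp, ← CommRingCat.ofHom_comp]
  rfl

omit [IsLocalRing A] [IsLocalRing R] [IsLocalRing (R ⧸ Ideal.span {algebraMap A R f})] in
theorem exists_factor_red {Q : Scheme.{u}} (x : Q ⟶ Spec (CommRingCat.of R))
    (y : Q ⟶ Spec (CommRingCat.of (A ⧸ Ideal.span {f}))) (w : x ≫ sp A R = y ≫ qSpec (Ideal.span {f})) :
    ∃ z, z ≫ qSpec (Ideal.span {algebraMap A R f}) = x ∧ z ≫ Spec.map (CommRingCat.ofHom (redMap f)) = y := by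
  obtain ⟨z, hz⟩ := exists_factor_quot (R := R) (Ideal.span {f}) (K := Ideal.span {algebraMap A R f})
    (by rw [Ideal.map_span, Set.image_singleton]) x y w
  refine ⟨z, hz, ?_⟩
  rw [← cancel_mono (qSpec (Ideal.span {f})), Category.assoc, redMap_sq, ← Category.assoc, ← w]
  exact congrArg (· ≫ sp A R) hz

variable [IsNoetherianRing R] [IsAdicComplete (Ideal.span {algebraMap A R f}) R]
  (hf : algebraMap A R f ∈ maximalIdeal R) (h1 : KilledH (maximalIdeal R) (algebraMap A R f) 1 R)
  (h2 : KilledH (maximalIdeal R) (algebraMap A R f) 2 R)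

include hmax hf h1 h2 in
/-- Restriction from the punctured spectrum over `R` to its reduction is fully faithful. -/
theorem restrict_base_change :
    (FEt.restrict (pullback.fst (pullback.fst (FEt.puncturedSpec A).ι (sp A R))
      (pullback.fst (FEt.puncturedSpec A).ι (qSpec (Ideal.span {f}))))).Full ∧
    (FEt.restrict (pullback.fst (pullback.fst (FEt.puncturedSpec A).ι (sp A R))
      (pullback.fst (FEt.puncturedSpec A).ι (qSpec (Ideal.span {f}))))).Faithful := by
  let U := FEt.puncturedSpec A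
  let g₁ := pullback.fst U.ι (sp A R)
  let g₂ := pullback.fst U.ι (qSpec (Ideal.span {f}))
  let J' : Ideal R := Ideal.span {algebraMap A R f}
  let e := (isPullback_jR hmax).isoPullback
  have he1 : e.hom ≫ pullback.fst U.ι (sp A R) = jR hmax := (isPullback_jR hmax).isoPullback_hom_fst
  have he : e.inv ≫ (FEt.puncturedSpec R).ι = pullback.snd U.ι (sp A R) := (isPullback_jR hmax).isoPullback_inv_snd
  obtain ⟨z, hz1, hz2⟩ := exists_factor_red f (pullback.fst g₁ g₂ ≫ pullback.snd U.ι (sp A R))
    (pullback.snd g₁ g₂ ≫ pullback.snd U.ι (qSpec (Ideal.span {f}))) (by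
      rw [Category.assoc, Category.assoc, ← pullback.condition, ← pullback.condition, ← Category.assoc,
        ← Category.assoc]
      exact congrArg (· ≫ U.ι) pullback.condition)
  let α : pullback g₁ g₂ ⟶ (FEt.puncturedSpec (R ⧸ J') : Scheme.{u}) :=
    (isPullback_jP J').lift (pullback.fst g₁ g₂ ≫ e.inv) z (by rw [Category.assoc, he]; exact hz1.symm)
  have hα : α ≫ jP J' = pullback.fst g₁ g₂ ≫ e.inv := IsPullback.lift_fst _ _ _ _
  let β : (FEt.puncturedSpec (R ⧸ J') : Scheme.{u}) ⟶ pullback g₁ g₂ :=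
    pullback.lift (jP J' ≫ e.hom) (pullback.lift (jP J' ≫ jR hmax)
      ((FEt.puncturedSpec (R ⧸ J')).ι ≫ Spec.map (CommRingCat.ofHom (redMap f))) (by
        rw [Category.assoc, Category.assoc, (isPullback_jR hmax).w, redMap_sq, jP_ι_assoc])) (by
      rw [pullback.lift_fst, Category.assoc]
      exact congrArg (jP J' ≫ ·) he1)
  have hβ : β ≫ pullback.fst g₁ g₂ = jP J' ≫ e.hom := pullback.lift_fst _ _ _
  haveI : IsClosedImmersion g₂ := MorphismProperty.pullback_fst _ _ inferInstance
  haveI : Mono (pullback.fst g₁ g₂) := inferInstance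
  haveI : IsIso α := ⟨β, by
    rw [← cancel_mono (pullback.fst g₁ g₂), Category.assoc, hβ, reassoc_of% hα, Iso.inv_hom_id,
      Category.comp_id, Category.id_comp], by
    rw [← cancel_mono (jP J'), Category.assoc, hα, reassoc_of% hβ, Iso.hom_inv_id, Category.comp_id,
      Category.id_comp]⟩
  have heq : pullback.fst g₁ g₂ = α ≫ jP J' ≫ e.hom := by
    rw [reassoc_of% hα, Iso.inv_hom_id, Category.comp_id]
  show (FEt.restrict (pullback.fst g₁ g₂)).Full ∧ _
  rw [heq]
  exact restrict_comp _ _ (Pi1X.restrict_fullyFaithful_of_homeo α)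
    (restrict_comp _ _ (restrict_jP R (algebraMap A R f) hf h1 h2) (Pi1X.restrict_fullyFaithful_of_homeo e.hom))

include hmax hf h1 h2 in
/-- A cover of the punctured spectrum extending modulo `f` extends after completion. -/
theorem exists_extension (V : FEt.Cat (FEt.puncturedSpec A : Scheme.{u}))
    (Y₀ : FEt.Cat (Spec (CommRingCat.of (A ⧸ Ideal.span {f}))))
    (e₀ : (FEt.restrict (pullback.snd (FEt.puncturedSpec A).ι (qSpec (Ideal.span {f})))).obj Y₀ ≅
      (FEt.restrict (pullback.fst (FEt.puncturedSpec A).ι (qSpec (Ideal.span {f})))).obj V) :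
    ∃ Y' : FEt.Cat (Spec (CommRingCat.of R)),
      Nonempty ((FEt.restrict (pullback.snd (FEt.puncturedSpec A).ι (sp A R))).obj Y' ≅
        (FEt.restrict (pullback.fst (FEt.puncturedSpec A).ι (sp A R))).obj V) := by
  let U := FEt.puncturedSpec A
  let g₁ := pullback.fst U.ι (sp A R)
  let g₂ := pullback.fst U.ι (qSpec (Ideal.span {f}))
  haveI : HenselianRing R (Ideal.span {algebraMap A R f}) := inferInstance
  haveI := S0239.result R (Ideal.span {algebraMap A R f})
  let qz := Spec.map (CommRingCat.ofHom (redMap (R := R) f))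
  let Y' := (FEt.restrict (qSpec (Ideal.span {algebraMap A R f}))).objPreimage ((FEt.restrict qz).obj Y₀)
  let eY := (FEt.restrict (qSpec (Ideal.span {algebraMap A R f}))).objObjPreimageIso ((FEt.restrict qz).obj Y₀)
  obtain ⟨z, hz1, hz2⟩ := exists_factor_red f (pullback.fst g₁ g₂ ≫ pullback.snd U.ι (sp A R))
    (pullback.snd g₁ g₂ ≫ pullback.snd U.ι (qSpec (Ideal.span {f}))) (by
      rw [Category.assoc, Category.assoc, ← pullback.condition, ← pullback.condition, ← Category.assoc,
        ← Category.assoc]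
      exact congrArg (· ≫ U.ι) pullback.condition)
  obtain ⟨_, _⟩ := restrict_base_change hmax f hf h1 h2
  refine ⟨Y', ⟨(FEt.restrict (pullback.fst g₁ g₂)).preimageIso ?_⟩⟩
  exact ((MorphismProperty.Over.pullbackComp (pullback.fst g₁ g₂) (pullback.snd U.ι (sp A R))).app Y').symm ≪≫
    (MorphismProperty.Over.pullbackCongr hz1.symm).app Y' ≪≫
    (MorphismProperty.Over.pullbackComp z (qSpec (Ideal.span {algebraMap A R f}))).app Y' ≪≫
    (FEt.restrict z).mapIso eY ≪≫
    ((MorphismProperty.Over.pullbackComp z qz).app Y₀).symm ≪≫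
    (MorphismProperty.Over.pullbackCongr hz2).app Y₀ ≪≫
    (MorphismProperty.Over.pullbackComp (pullback.snd g₁ g₂) (pullback.snd U.ι (qSpec (Ideal.span {f})))).app Y₀ ≪≫
    (FEt.restrict (pullback.snd g₁ g₂)).mapIso e₀ ≪≫
    ((MorphismProperty.Over.pullbackComp (pullback.snd g₁ g₂) g₂).app V).symm ≪≫
    (MorphismProperty.Over.pullbackCongr pullback.condition.symm).app V ≪≫
    (MorphismProperty.Over.pullbackComp (pullback.fst g₁ g₂) g₁).app V

end Groth.Agent.H9Lef

end
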