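import Groth.Agent.H9Lef.SecScheme

/-!
# Restriction to the reduced punctured spectrum is fully faithful

For a local ring complete for `f`, with `H^1` and `H^2` killed by a power of `f`.
-/

set_option autoImplicit false
set_option linter.style.haveILetI false

universe u

open CategoryTheory CategoryTheory.Limits AlgebraicGeometry IsLocalRing Groth.Agent.Pi1Ext.RegPurity
  Groth.Agent.Pi1Ext.PuritySch TensorProduct

noncomputable section

namespace Groth.Agent.H9Lef

open Groth.Agent Groth.Agent.H9Pur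

set_option backward.isDefEq.respectTransparency false
set_option backward.isDefEq.respectTransparency.types false

variable {A : Type u} [CommRing A]

theorem isSec_of_res_eq [IsNoetherianRing A] {C : Type u} [CommRing C] [Algebra A C] {r : ℕ} {g : Fin r → A}
    {x : ∀ i, H9Pur.L C (g i)} (h : ∀ i j, res₁ (g i) (g j) (x i) = res₂ (g i) (g j) (x j)) :
    IsSec (fun i => lC C (g i)) g x := by
  obtain ⟨k, m, hm⟩ := exists_frac (ℓ := fun i => lC C (g i)) (g := g) x
  have key : ∀ i j, ∃ K, (g i * g j) ^ K • (g j ^ k • m i) = (g i * g j) ^ K • (g i ^ k • m j) := by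
    intro i j
    haveI := isLocalizedModule_lC C (g i * g j)
    have hi : g i ^ k • res₁ (g i) (g j) (x i) = lC C (g i * g j) (m i) :=
      ((map_smul ((res₁ (C := C) (g i) (g j)).restrictScalars A).toLinearMap _ _).symm.trans
        (congrArg ((res₁ (C := C) (g i) (g j)).restrictScalars A).toLinearMap (hm i))).trans
          ((res₁ (C := C) (g i) (g j)).commutes (m i))
    have hj : g j ^ k • res₂ (g i) (g j) (x j) = lC C (g i * g j) (m j) :=
      ((map_smul ((res₂ (C := C) (g i) (g j)).restrictScalars A).toLinearMap _ _).symm.trans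
        (congrArg ((res₂ (C := C) (g i) (g j)).restrictScalars A).toLinearMap (hm j))).trans
          ((res₂ (C := C) (g i) (g j)).commutes (m j))
    obtain ⟨⟨_, K, rfl⟩, hK⟩ := (IsLocalizedModule.eq_iff_exists (Submonoid.powers (g i * g j))
      (lC C (g i * g j))).1 (show lC C (g i * g j) (g j ^ k • m i) = lC C (g i * g j) (g i ^ k • m j) by
        rw [map_smul, map_smul, ← hi, ← hj, h i j, smul_comm])
    exact ⟨K, hK⟩
  choose K hK using key
  refine isApprox_bot.1 ((isApprox_iff hm).2 ⟨Finset.univ.sup (fun p : Fin r × Fin r => K p.1 p.2), fun i j => ?_⟩)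
  obtain ⟨e, he⟩ := Nat.exists_eq_add_of_le
    (Finset.le_sup (f := fun p : Fin r × Fin r => K p.1 p.2) (Finset.mem_univ (i, j)))
  rw [Submodule.mem_bot, smul_sub, he, add_comm _ e, pow_add _ e, mul_smul, mul_smul, hK, sub_self]

variable {r : ℕ} {g : Fin r → A}

/-- An element of the algebra maps to a section. -/
def toE (C : Type u) [CommRing C] [Algebra A C] (g : Fin r → A) : C →ₐ[A] secAlg C g :=
  (AlgHom.pi fun i => IsScalarTower.toAlgHom A C (H9Pur.L C (g i))).codRestrict _ fun c =>
    (toSec (fun i => lC C (g i)) g c).2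

variable [IsLocalRing A] (hg : Ideal.span (Set.range g) = maximalIdeal A)

include hg in
theorem exists_pow_smul_toE {C : Type u} [CommRing C] [Algebra A C] (x : secAlg C g) {h : A}
    (hh : h ∈ maximalIdeal A) : ∃ (n : ℕ) (c : C), h ^ n • x = toE C g c := by
  let I : Ideal A := (LinearMap.range (toE C g).toLinearMap).comap (LinearMap.toSpanSingleton A _ x)
  obtain ⟨n, c, hc⟩ : h ∈ I.radical := by
    refine Ideal.span_le.2 ?_ (hg.symm ▸ hh : h ∈ Ideal.span (Set.range g))
    rintro _ ⟨i, rfl⟩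
    obtain ⟨k, m, h1, h2⟩ := x.2
    refine ⟨k, m i, Subtype.ext (funext fun j => (bijective_smul (ℓ := fun i => lC C (g i)) (g := g) j k).1 ?_)⟩
    show g j ^ k • lC C (g j) (m i) = g j ^ k • g i ^ k • x.1 j
    rw [← map_smul, h2 i j, map_smul, show lC C (g j) (m j) = g j ^ k • x.1 j from (h1 j).symm, smul_comm]
  exact ⟨n, c, hc.symm⟩

include hg in
theorem exists_pow_smul_of_toE_eq_zero {C : Type u} [CommRing C] [Algebra A C] {c : C} (hc : toE C g c = 0) {h : A}
    (hh : h ∈ maximalIdeal A) : ∃ n : ℕ, h ^ n • c = 0 := by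
  let I : Ideal A := LinearMap.ker (LinearMap.toSpanSingleton A C c)
  obtain ⟨n, hn⟩ : h ∈ I.radical := by
    refine Ideal.span_le.2 ?_ (hg.symm ▸ hh : h ∈ Ideal.span (Set.range g))
    rintro _ ⟨i, rfl⟩
    obtain ⟨K, hK⟩ := exists_pow_smul_eq (ℓ := fun i => lC C (g i)) (g := g) (i := i) (m := c) (m' := 0) (by
      rw [map_zero]; exact congrArg (fun z : secAlg C g => z.1 i) hc)
    exact ⟨K, LinearMap.mem_ker.2 (by simpa using hK)⟩
  exact ⟨n, hn⟩

variable [IsNoetherianRing A] {f : A} [IsAdicComplete (Ideal.span {f}) A] [IsLocalRing (A ⧸ Ideal.span {f})]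
  (hf : f ∈ maximalIdeal A) (h1 : KilledH (maximalIdeal A) f 1 A) (h2 : KilledH (maximalIdeal A) f 2 A)
  {B C : Type u} [CommRing B] [CommRing C] [Algebra A B] [Algebra A C] [Module.Finite A B] [Module.Finite A C]
  (hB : EtOff A B) (hC : EtOff A C)

include hg in
omit [IsNoetherianRing A] [IsAdicComplete (Ideal.span {f}) A] [IsLocalRing (A ⧸ Ideal.span {f})] in
theorem mem_max (i : Fin r) : g i ∈ maximalIdeal A := hg ▸ Ideal.subset_span ⟨i, rfl⟩

include hg in
omit [Module.Finite A B] [Module.Finite A C] in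
/-- The sections given by a morphism. -/
theorem exists_secHom_of_hom
    (a : pullback (sp A C) (FEt.puncturedSpec A).ι ⟶ pullback (sp A B) (FEt.puncturedSpec A).ι)
    (ha : a ≫ pullback.snd _ _ = pullback.snd _ _) :
    ∃ Ψ : B →ₐ[A] secAlg C g, ∀ i b, (Ψ b).1 i = τ₀ a ha (mem_max hg i) b := by
  refine ⟨(AlgHom.pi fun i => τ₀ a ha (mem_max hg i)).codRestrict _ fun b =>
    mem_secAlg.2 (isSec_of_res_eq fun i j => ?_), fun i b => rfl⟩
  have hij : g i * g j ∈ maximalIdeal A := Ideal.mul_mem_right _ _ (mem_max hg i)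
  show res₁ (g i) (g j) (τ₀ a ha (mem_max hg i) b) = res₂ (g i) (g j) (τ₀ a ha (mem_max hg j) b)
  rw [← τ_algebraMap a ha (mem_max hg i), ← τ_algebraMap a ha (mem_max hg j),
    τ_res a ha (mem_max hg i) hij (res₁ (g i) (g j)), τ_res a ha (mem_max hg j) hij (res₂ (g i) (g j)),
    AlgHom.commutes, AlgHom.commutes]

include hg hf h1 h2 hB hC in
omit [Module.Finite A B] in
/-- Morphisms over the punctured spectrum are determined by their reductions. -/
theorem red_injective
    (a b : pullback (sp A C) (FEt.puncturedSpec A).ι ⟶ pullback (sp A B) (FEt.puncturedSpec A).ι)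
    (ha : a ≫ pullback.snd _ _ = pullback.snd _ _) (hb : b ≫ pullback.snd _ _ = pullback.snd _ _)
    (hab : pullback.fst (rest A C) (jP (Ideal.span {f})) ≫ a = pullback.fst (rest A C) (jP (Ideal.span {f})) ≫ b) :
    a = b := by
  obtain ⟨hC1, -⟩ := killedH_algebra hg hf h1 h2 C fun i => hC _ (mem_max hg i)
  obtain ⟨Ψ, hΨ⟩ := exists_secHom_of_hom hg a ha
  obtain ⟨Φ, hΦ⟩ := exists_secHom_of_hom hg b hb
  have he : Ψ = Φ := secHom_ext (f := f) hg hC1 (fun i => hB _ (mem_max hg i)) Ψ Φ fun i c => by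
    let J : Ideal A := Ideal.span {f}
    rw [hΨ, hΦ]
    have hr : ∀ (e : pullback (sp A C) (FEt.puncturedSpec A).ι ⟶ pullback (sp A B) (FEt.puncturedSpec A).ι)
        (he : e ≫ pullback.snd _ _ = pullback.snd _ _),
        Spec.map (CommRingCat.ofHom ((tq J 0 (g i)).comp (τ₀ e he (mem_max hg i))).toRingHom) =
          pt J C (mem_max hg i) ≫ pullback.fst (rest A C) (jP J) ≫ e ≫ pullback.fst _ _ := fun e he => by
      rw [pt, pullback.lift_fst_assoc, Category.assoc, ← Spec_τ₀ e he (mem_max hg i), ← Spec.map_comp,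
        ← CommRingCat.ofHom_comp]
      rfl
    have h3 : Spec.map (CommRingCat.ofHom ((tq J 0 (g i)).comp (τ₀ a ha (mem_max hg i))).toRingHom) =
        Spec.map (CommRingCat.ofHom ((tq J 0 (g i)).comp (τ₀ b hb (mem_max hg i))).toRingHom) := by
      rw [hr a ha, hr b hb, ← Category.assoc (pullback.fst _ _), hab, Category.assoc]
    exact ConcreteCategory.congr_hom (Spec.map_injective h3) c
  refine hom_ext_jS hg a b fun i => ?_
  rw [← cancel_mono (pullback.fst (sp A B) (FEt.puncturedSpec A).ι), Category.assoc, Category.assoc,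
    ← Spec_τ₀ a ha (mem_max hg i), ← Spec_τ₀ b hb (mem_max hg i)]
  congr 2
  refine RingHom.ext fun c => ?_
  show τ₀ a ha (mem_max hg i) c = τ₀ b hb (mem_max hg i) c
  rw [← hΨ, ← hΦ, he]

include hg hf h1 h2 hB hC in
/-- Morphisms of reductions lift. -/
theorem red_surjective (φ : redP (Ideal.span {f}) C ⟶ redP (Ideal.span {f}) B)
    (hφ : φ ≫ pullback.snd _ _ = pullback.snd _ _) :
    ∃ (a : pullback (sp A C) (FEt.puncturedSpec A).ι ⟶ pullback (sp A B) (FEt.puncturedSpec A).ι),
      a ≫ pullback.snd _ _ = pullback.snd _ _ ∧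
        pullback.fst (rest A C) (jP (Ideal.span {f})) ≫ a = φ ≫ pullback.fst (rest A B) (jP (Ideal.span {f})) := by
  let J : Ideal A := Ideal.span {f}
  obtain ⟨hC1, hC2⟩ := killedH_algebra hg hf h1 h2 C fun i => hC _ (mem_max hg i)
  have hij : ∀ i j, g i * g j ∈ maximalIdeal A := fun i j => Ideal.mul_mem_right _ _ (mem_max hg i)
  choose u hu using fun (i : Fin r) => exists_red_algHom J φ hφ (mem_max hg i)
  have hu' : ∀ i, IsUnit (algebraMap A (TQ J C 0 (g i)) (g i)) :=
    fun i => isUnit_TQ (f := f) 0 (isUnit_L' (C := C) (g i))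
  obtain ⟨Ψ, hΨ⟩ := exists_secHom (f := f) hg hC1 hC2 (C' := B) (fun i => hB _ (mem_max hg i))
    (fun i j => hB _ (hij i j)) (fun i => extL (g i) (hu' i) (u i)) fun i j c => by
      rw [extL_algebraMap, extL_algebraMap]
      have h3 : Spec.map (CommRingCat.ofHom (u i).toRingHom ≫ CommRingCat.ofHom (tres J (res₁ (g i) (g j)) 0).toRingHom) =
          Spec.map (CommRingCat.ofHom (u j).toRingHom ≫ CommRingCat.ofHom (tres J (res₂ (g i) (g j)) 0).toRingHom) := by
        rw [Spec.map_comp, Spec.map_comp, hu, hu, ← Category.assoc, ← Category.assoc,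
          tres_pt J (mem_max hg i) (hij i j), ← tres_pt J (mem_max hg j) (hij i j) (res₂ (g i) (g j))]
        simp only [Category.assoc]
      exact ConcreteCategory.congr_hom (Spec.map_injective h3) c
  simp only [extL_algebraMap] at hΨ
  -- the finite algebra generated by the two
  let P : C ⊗[A] B →ₐ[A] secAlg C g := Algebra.TensorProduct.productMap (toE C g) Ψ
  let D : Subalgebra A (secAlg C g) := P.range
  haveI : Module.Finite A D := Module.Finite.of_surjective P.rangeRestrict.toLinearMap P.rangeRestrict_surjective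
  let κ : C →ₐ[A] D := (toE C g).codRestrict D fun c => ⟨c ⊗ₜ 1, by simp [P]⟩
  let Ψ' : B →ₐ[A] D := Ψ.codRestrict D fun b => ⟨1 ⊗ₜ b, by simp [P]⟩
  have hκ : ∀ h ∈ maximalIdeal A, IsoAway (A := A) (C := C) (B := D) κ h := by
    intro h hh
    refine ⟨fun d => ?_, fun c hc => exists_pow_smul_of_toE_eq_zero hg (congrArg Subtype.val hc) hh⟩
    obtain ⟨n, c, hc⟩ := exists_pow_smul_toE (C := C) hg d.1 hh
    exact ⟨n, c, Subtype.ext hc⟩
  have hD : EtOff A D := fun h hh => (hκ h hh).etale (hC h hh)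
  haveI := isIso_restMap (C := C) (B := D) κ hκ (prop_rest C hC) (prop_rest D hD)
  let a := inv (restMap (C := C) (B := D) κ) ≫ restMap (C := B) (B := D) Ψ'
  have ha : a ≫ pullback.snd _ _ = pullback.snd _ _ := by
    rw [Category.assoc, IsIso.inv_comp_eq, restMap, restMap, pullback.lift_snd, pullback.lift_snd]
  -- the morphism on a standard open
  have hjS : ∀ i, jS C (mem_max hg i) ≫ a ≫ pullback.fst _ _ =
      Spec.map (CommRingCat.ofHom ((Pi.evalAlgHom A (fun j => H9Pur.L C (g j)) i).comp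
        ((secAlg C g).val.comp Ψ)).toRingHom) := fun i => by
    let pr : D →ₐ[A] H9Pur.L C (g i) :=
      (Pi.evalAlgHom A (fun j => H9Pur.L C (g j)) i).comp ((secAlg C g).val.comp D.val)
    let s : Spec (CommRingCat.of (H9Pur.L C (g i))) ⟶ pullback (sp A D) (FEt.puncturedSpec A).ι :=
      pullback.lift (Spec.map (CommRingCat.ofHom pr.toRingHom)) (jU C (mem_max hg i)) (by
        rw [jU_ι, ← Spec.map_comp, ← CommRingCat.ofHom_comp]
        congr 2)
    have hs : jS C (mem_max hg i) = s ≫ restMap (C := C) (B := D) κ := by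
      refine pullback.hom_ext ?_ ?_
      · rw [jS_fst, Category.assoc, restMap, pullback.lift_fst, pullback.lift_fst_assoc, ← Spec.map_comp,
          ← CommRingCat.ofHom_comp]
        rfl
      · rw [jS_snd, Category.assoc, restMap, pullback.lift_snd, pullback.lift_snd]
    rw [hs, Category.assoc, Category.assoc, IsIso.hom_inv_id_assoc, restMap, pullback.lift_fst,
      pullback.lift_fst_assoc, ← Spec.map_comp, ← CommRingCat.ofHom_comp]
    rfl
  refine ⟨a, ha, ?_⟩
  rw [← cancel_mono (pullback.fst (sp A B) (FEt.puncturedSpec A).ι), Category.assoc, Category.assoc]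
  refine red_hom_ext J hg _ _ fun i => ?_
  have e1 : pt J C (mem_max hg i) ≫ pullback.fst (rest A C) (jP J) ≫ a ≫ pullback.fst _ _ =
      Spec.map (CommRingCat.ofHom (u i).toRingHom) := by
    rw [pt, pullback.lift_fst_assoc, Category.assoc, hjS, ← Spec.map_comp, ← CommRingCat.ofHom_comp]
    congr 2
    exact RingHom.ext fun c => hΨ i c
  refine Eq.trans ?_ ((e1.trans (hu i)).trans ?_)
  · simp only [a, Category.assoc]; rfl
  · simp only [Category.assoc]; rfl

end Groth.Agent.H9Lef

end
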