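import Groth.Agent.H9Lef.SecMod
import Groth.Agent.LC.CohDT
import Mathlib.RingTheory.Finiteness.Ideal

/-!
# Sections and local cohomology

Sections have no torsion and no `H^1`; the first two local cohomology modules control the map to them.
-/

set_option autoImplicit false
set_option linter.style.haveILetI false

universe u

open CategoryTheory Limits

noncomputable section

namespace Groth.Agent.H9Lef

open Groth.Agent

variable {A : Type u} [CommRing A] [IsNoetherianRing A] (I : Ideal A) (f : A)

/-- A power of `f` kills the module. -/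
def KilledBy (M : Type u) [AddCommGroup M] [Module A M] : Prop := ∃ c : ℕ, ∀ z : M, f ^ c • z = 0

omit [IsNoetherianRing A] in
theorem killedBy_of_exact {P Q R : Type u} [AddCommGroup P] [Module A P] [AddCommGroup Q] [Module A Q]
    [AddCommGroup R] [Module A R] {φ : P →ₗ[A] Q} {ψ : Q →ₗ[A] R} (h : Function.Exact φ ψ) (hP : KilledBy f P)
    (hR : KilledBy f R) : KilledBy f Q := by
  obtain ⟨c, hc⟩ := hP
  obtain ⟨d, hd⟩ := hR
  refine ⟨c + d, fun z => ?_⟩
  obtain ⟨w, hw⟩ := (h (f ^ d • z)).1 (by rw [map_smul, hd])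
  rw [pow_add, mul_smul, ← hw, ← map_smul, hc, map_zero]

omit [IsNoetherianRing A] in
theorem killedBy_of_injective {P Q : Type u} [AddCommGroup P] [Module A P] [AddCommGroup Q] [Module A Q]
    (φ : P →ₗ[A] Q) (h : Function.Injective φ) (hQ : KilledBy f Q) : KilledBy f P :=
  hQ.imp fun c hc z => h (by rw [map_smul, hc, map_zero])

omit [IsNoetherianRing A] in
theorem killedBy_of_surjective {P Q : Type u} [AddCommGroup P] [Module A P] [AddCommGroup Q] [Module A Q]
    (φ : P →ₗ[A] Q) (h : Function.Surjective φ) (hP : KilledBy f P) : KilledBy f Q :=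
  hP.imp fun c hc z => by obtain ⟨w, rfl⟩ := h z; rw [← map_smul, hc, map_zero]

/-- Local cohomology in degree `i` is killed by a power of `f`. -/
def KilledH (i : ℕ) (M : Type u) [AddCommGroup M] [Module A M] : Prop :=
  KilledBy f ((localCohomology I i).obj (ModuleCat.of A M))

variable {I f}

/-- The short exact sequence of a surjection. -/
abbrev surjSeq {M N : Type u} [AddCommGroup M] [Module A M] [AddCommGroup N] [Module A N] (q : M →ₗ[A] N) :
    ShortComplex (ModuleCat.{u} A) :=
  ShortComplex.mk (ModuleCat.ofHom (LinearMap.ker q).subtype) (ModuleCat.ofHom q) (by ext x; exact x.2)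

omit [IsNoetherianRing A] in
theorem surjSeq_shortExact {M N : Type u} [AddCommGroup M] [Module A M] [AddCommGroup N] [Module A N]
    (q : M →ₗ[A] N) (hq : Function.Surjective q) : (surjSeq q).ShortExact :=
  { exact := (ShortComplex.ShortExact.moduleCat_exact_iff_function_exact _).2 (LinearMap.exact_subtype_ker_map q)
    mono_f := (ModuleCat.mono_iff_injective _).2 (Submodule.injective_subtype _)
    epi_g := (ModuleCat.epi_iff_surjective _).2 hq }

/-- The short exact sequence of an injection. -/
abbrev injSeq {M N : Type u} [AddCommGroup M] [Module A M] [AddCommGroup N] [Module A N] (j : M →ₗ[A] N) :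
    ShortComplex (ModuleCat.{u} A) :=
  ShortComplex.mk (ModuleCat.ofHom j) (ModuleCat.ofHom (LinearMap.range j).mkQ) (by ext x; simp)

omit [IsNoetherianRing A] in
theorem injSeq_shortExact {M N : Type u} [AddCommGroup M] [Module A M] [AddCommGroup N] [Module A N]
    (j : M →ₗ[A] N) (hj : Function.Injective j) : (injSeq j).ShortExact :=
  { exact := (ShortComplex.ShortExact.moduleCat_exact_iff_function_exact _).2 (LinearMap.exact_map_mkQ_range j)
    mono_f := (ModuleCat.mono_iff_injective _).2 hj
    epi_g := (ModuleCat.epi_iff_surjective _).2 (Submodule.mkQ_surjective _) }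

omit [IsNoetherianRing A] in
/-- In degree zero the connecting map detects torsion when the middle term has none. -/
theorem δH_zero_injective {S : ShortComplex (ModuleCat.{u} A)} (hS : S.ShortExact)
    (h₂ : DRing.torsionSub I S.X₂ = ⊥) : Function.Injective (LC.δH I 0 hS 1 rfl) := by
  rw [injective_iff_map_eq_zero]
  intro z hz
  obtain ⟨w, rfl⟩ := (LC.exact₃ I 0 hS 1 rfl z).1 hz
  have : w = 0 := (LC.H0Equiv I S.X₂).injective (Subtype.ext (by
    have := (LC.H0Equiv I S.X₂ w).2
    simp only [h₂, Submodule.mem_bot] at this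
    rw [this, map_zero]; rfl))
  rw [this, map_zero]

variable {r : ℕ} {g : Fin r → A} (hg : Ideal.span (Set.range g) = I)
  {M : Type u} [AddCommGroup M] [Module A M] {L : Fin r → Type u} [∀ i, AddCommGroup (L i)] [∀ i, Module A (L i)]
  (ℓ : ∀ i, M →ₗ[A] L i) [∀ i, IsLocalizedModule (Submonoid.powers (g i)) (ℓ i)]

include hg in
omit [IsNoetherianRing A] in
theorem torsionSub_secSub : DRing.torsionSub I (secSub ℓ g) = ⊥ := by
  refine (Submodule.eq_bot_iff _).2 fun x hx => ?_
  obtain ⟨n, hn⟩ := hx
  exact secSub_eq_zero (ℓ := ℓ) (g := g) fun j => hn _ (Ideal.pow_mem_pow (hg ▸ Ideal.subset_span ⟨j, rfl⟩) n)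

include hg in
omit [IsNoetherianRing A] in
/-- Sections have no `H^1`. -/
theorem subsingleton_H1_secSub :
    Subsingleton ((localCohomology I 1).obj (ModuleCat.of A (secSub ℓ g))) := by
  refine subsingleton_of_forall_eq 0 fun z => ?_
  obtain ⟨n, x, rfl⟩ := LC.exists_toH I 1 z
  obtain ⟨x₁, hx₁⟩ := Abelian.Ext.contravariant_sequence_exact₃ (LC.quotSeq_shortExact I n) _ x
    (Abelian.Ext.eq_zero_of_projective _) (add_zero 1)
  obtain ⟨φ, rfl⟩ := (Abelian.Ext.linearEquiv₀ (R := A)).symm.surjective x₁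
  obtain ⟨σ, hσ⟩ := exists_extend (ℓ := ℓ) (g := g) (I ^ n).subtype
    (fun i => ⟨g i ^ n, Ideal.pow_mem_pow (hg ▸ Ideal.subset_span ⟨i, rfl⟩) n⟩) (fun i => rfl) φ.hom
    (fun a b => by
      rw [← map_smul, ← map_smul]
      congr 1
      exact Subtype.ext (mul_comm _ _))
  have hφ : φ = (LC.quotSeq I n).f ≫ ModuleCat.ofHom (LinearMap.toSpanSingleton A (secSub ℓ g) σ) :=
    ModuleCat.hom_ext (LinearMap.ext hσ)
  rw [← hx₁, Abelian.Ext.linearEquiv₀_symm_apply, hφ, ← Abelian.Ext.mk₀_comp_mk₀,
    ← Abelian.Ext.comp_assoc _ _ _ (add_zero 1) (zero_add 0) (by omega), (LC.quotSeq_shortExact I n).extClass_comp,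
    Abelian.Ext.zero_comp, map_zero]

include hg in
theorem exists_pow_le_span (k : ℕ) : ∃ n, I ^ n ≤ Ideal.span (Set.range fun j => g j ^ k) :=
  Ideal.exists_pow_le_of_le_radical_of_fg (by
    rw [← hg, Ideal.span_le]
    rintro _ ⟨j, rfl⟩
    exact ⟨k, Ideal.subset_span ⟨j, rfl⟩⟩) (IsNoetherian.noetherian I)

include hg in
theorem isPowerTorsion_coker_toSec : LocCoh.IsPowerTorsion I (secSub ℓ g ⧸ LinearMap.range (toSec ℓ g)) := by
  intro z
  obtain ⟨⟨x, k, m, h1, h2⟩, rfl⟩ := Submodule.mkQ_surjective _ z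
  obtain ⟨n, hn⟩ := exists_pow_le_span hg k
  refine ⟨n, fun a ha => ?_⟩
  have key : ∀ c ∈ Ideal.span (Set.range fun j => g j ^ k),
      c • (Submodule.mkQ (LinearMap.range (toSec ℓ g)) ⟨x, k, m, h1, h2⟩) = 0 := fun c hc => by
    induction hc using Submodule.span_induction with
    | mem c hc' =>
      obtain ⟨j, rfl⟩ := hc'
      rw [← map_smul, Submodule.mkQ_apply, Submodule.Quotient.mk_eq_zero]
      refine ⟨m j, Subtype.ext (funext fun i => (bijective_smul (ℓ := ℓ) (g := g) i k).1 ?_)⟩
      show g i ^ k • ℓ i (m j) = g i ^ k • g j ^ k • x i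
      rw [← map_smul, ← h2, map_smul, ← h1, smul_comm]
    | zero => rw [zero_smul]
    | add _ _ _ _ h h' => rw [add_smul, h, h', add_zero]
    | smul _ _ _ h => rw [smul_assoc, h, smul_zero]
  exact key _ (hn ha)

include hg in
theorem isPowerTorsion_ker_toSec : LocCoh.IsPowerTorsion I (LinearMap.ker (toSec ℓ g)) := by
  rintro ⟨m, hm⟩
  obtain ⟨K, hK⟩ := exists_uniform_eq (ℓ := ℓ) (g := g) (a := fun _ => m) (b := fun _ => 0) (fun i => by
    rw [map_zero]; exact congrArg (fun y : secSub ℓ g => y.1 i) hm)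
  obtain ⟨n, hn⟩ := exists_pow_le_span hg K
  refine ⟨n, fun a ha => Subtype.ext ?_⟩
  show a • m = 0
  have key : ∀ c ∈ Ideal.span (Set.range fun j => g j ^ K), c • m = 0 := fun c hc => by
    induction hc using Submodule.span_induction with
    | mem c hc' =>
      obtain ⟨j, rfl⟩ := hc'
      simpa using hK j
    | zero => rw [zero_smul]
    | add _ _ _ _ h h' => rw [add_smul, h, h', add_zero]
    | smul _ _ _ h => rw [smul_assoc, h, smul_zero]
  exact key a (hn ha)

include hg in
/-- Up to torsion, the module maps onto its image among the sections without changing `H^i` for `i ≥ 1`. -/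
theorem killedH_range_toSec {i : ℕ} (h : KilledH I f (i + 1) M) :
    KilledH I f (i + 1) (LinearMap.range (toSec ℓ g)) := by
  let q : M →ₗ[A] LinearMap.range (toSec ℓ g) := (toSec ℓ g).rangeRestrict
  have hS := surjSeq_shortExact (M := M) (N := ↥(LinearMap.range (toSec ℓ g))) q
    (toSec ℓ g).surjective_rangeRestrict
  haveI := LC.subsingleton_of_torsion I (i + 1) (ModuleCat.of A (LinearMap.ker q)) (by
    rw [show LinearMap.ker q = LinearMap.ker (toSec ℓ g) from LinearMap.ker_rangeRestrict _]; exact isPowerTorsion_ker_toSec hg ℓ)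
  exact killedBy_of_surjective f _
    (fun z => (LC.exact₃ I (i + 1) hS (i + 2) rfl z).1 (Subsingleton.elim _ _)) h

include hg in
/-- `H^2` of the sections. -/
theorem killedH_two_secSub (h : KilledH I f 2 M) : KilledH I f 2 (secSub ℓ g) := by
  let j : LinearMap.range (toSec ℓ g) →ₗ[A] secSub ℓ g := (LinearMap.range (toSec ℓ g)).subtype
  have hS := injSeq_shortExact (M := ↥(LinearMap.range (toSec ℓ g))) (N := ↥(secSub ℓ g)) j
    Subtype.val_injective
  haveI := LC.subsingleton_of_torsion I 1 (ModuleCat.of A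
      (secSub ℓ g ⧸ LinearMap.range j)) (by
    rw [show LinearMap.range j = LinearMap.range (toSec ℓ g) from Submodule.range_subtype _]; exact isPowerTorsion_coker_toSec hg ℓ)
  exact killedBy_of_exact f (LC.exact₂ I 2 hS) (killedH_range_toSec hg ℓ h) ⟨0, fun z => Subsingleton.elim _ _⟩

include hg in
/-- A power of `f` carries all sections into the module. -/
theorem exists_pow_smul_mem_range (h : KilledH I f 1 M) :
    ∃ c, ∀ x : secSub ℓ g, f ^ c • x ∈ LinearMap.range (toSec ℓ g) := by
  let R := LinearMap.range (toSec ℓ g)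
  let j : R →ₗ[A] secSub ℓ g := R.subtype
  have hS := injSeq_shortExact (M := ↥(LinearMap.range (toSec ℓ g))) (N := ↥(secSub ℓ g)) j
    Subtype.val_injective
  have hj : LinearMap.range j = R := Submodule.range_subtype R
  obtain ⟨c, hc⟩ := killedBy_of_injective f _ (δH_zero_injective hS (torsionSub_secSub hg ℓ))
    (killedH_range_toSec hg ℓ h)
  refine ⟨c, fun x => ?_⟩
  have ht : LocCoh.IsPowerTorsion I (secSub ℓ g ⧸ LinearMap.range j) := by
    rw [hj]; exact isPowerTorsion_coker_toSec hg ℓ
  let y : DRing.torsionSub I (secSub ℓ g ⧸ LinearMap.range j) := ⟨Submodule.Quotient.mk x, ht _⟩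
  have h1 := congrArg (LC.H0Equiv I (ModuleCat.of A (secSub ℓ g ⧸ LinearMap.range j)))
    (hc ((LC.H0Equiv I (ModuleCat.of A (secSub ℓ g ⧸ LinearMap.range j))).symm y))
  rw [map_smul, LinearEquiv.apply_symm_apply, map_zero] at h1
  have h2 : f ^ c • (Submodule.Quotient.mk x : secSub ℓ g ⧸ LinearMap.range j) = 0 :=
    congrArg Subtype.val h1
  rw [← Submodule.Quotient.mk_smul, Submodule.Quotient.mk_eq_zero, hj] at h2
  exact h2

end Groth.Agent.H9Lef

end
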