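import Groth.Agent.H9Lef.SecLC
import Groth.Agent.LC.AdjDepthRows

/-!
# Lifting sections along powers of `f`

If `H^1` and `H^2` are killed by a power of `f`, sections are separated and complete for the powers of `f`.
-/

set_option autoImplicit false
set_option linter.style.haveILetI false

universe u

open CategoryTheory Limits

noncomputable section

namespace Groth.Agent.H9Lef

open Groth.Agent

variable {A : Type u} [CommRing A] {r : ℕ} {g : Fin r → A} {M : Type u} [AddCommGroup M] [Module A M]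
  {L : Fin r → Type u} [∀ i, AddCommGroup (L i)] [∀ i, Module A (L i)] {ℓ : ∀ i, M →ₗ[A] L i}

/-- Fractions forming a section up to the submodule `P`. -/
def IsApprox (ℓ : ∀ i, M →ₗ[A] L i) (g : Fin r → A) (P : Submodule A M) (x : ∀ i, L i) : Prop :=
  ∃ (k : ℕ) (m : Fin r → M), (∀ i, g i ^ k • x i = ℓ i (m i)) ∧ ∀ i j, g j ^ k • m i - g i ^ k • m j ∈ P

theorem isApprox_bot {x : ∀ i, L i} : IsApprox ℓ g ⊥ x ↔ IsSec ℓ g x := by
  simp only [IsApprox, IsSec, Submodule.mem_bot, sub_eq_zero]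


theorem IsApprox.mono {P P' : Submodule A M} (h : P ≤ P') {x : ∀ i, L i} (hx : IsApprox ℓ g P x) :
    IsApprox ℓ g P' x :=
  hx.imp fun k => Exists.imp fun m hm => ⟨hm.1, fun i j => h (hm.2 i j)⟩

variable [∀ i, IsLocalizedModule (Submonoid.powers (g i)) (ℓ i)]

theorem exists_frac (x : ∀ i, L i) : ∃ (k : ℕ) (m : Fin r → M), ∀ i, g i ^ k • x i = ℓ i (m i) := by
  choose k m hm using fun i => exists_pow_smul_mem (ℓ := ℓ) (g := g) i (x i)
  refine ⟨Finset.univ.sup k, fun i => g i ^ (Finset.univ.sup k - k i) • m i, fun i => ?_⟩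
  rw [map_smul, ← hm, smul_smul, ← pow_add, Nat.sub_add_cancel (Finset.le_sup (f := k) (Finset.mem_univ i))]

theorem isApprox_iff {P : Submodule A M} {x : ∀ i, L i} {k : ℕ} {m : Fin r → M}
    (h : ∀ i, g i ^ k • x i = ℓ i (m i)) :
    IsApprox ℓ g P x ↔ ∃ K, ∀ i j, (g i * g j) ^ K • (g j ^ k • m i - g i ^ k • m j) ∈ P := by
  constructor
  · rintro ⟨k', m', h1, h2⟩
    obtain ⟨T, hT⟩ := exists_uniform_eq (ℓ := ℓ) (g := g) (a := fun i => g i ^ k' • m i)
      (b := fun i => g i ^ k • m' i)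
      fun i => by rw [map_smul, map_smul, ← h, ← h1, smul_comm]
    refine ⟨T + k', fun i j => ?_⟩
    have e : (g i * g j) ^ (T + k') • (g j ^ k • m i - g i ^ k • m j) =
        (g i * g j) ^ (T + k) • (g j ^ k' • m' i - g i ^ k' • m' j) := by
      have ei := congrArg (fun z => g j ^ (T + k' + k) • z) (hT i)
      have ej := congrArg (fun z => g i ^ (T + k' + k) • z) (hT j)
      simp only [smul_smul] at ei ej
      simp only [smul_sub, smul_smul]
      congr 1
      · convert ei using 2 <;> ring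
      · convert ej using 2 <;> ring
    rw [e]
    exact P.smul_mem _ (h2 i j)
  · rintro ⟨K, hK⟩
    refine ⟨k + K, fun i => g i ^ K • m i, fun i => ?_, fun i j => ?_⟩
    · rw [map_smul, ← h, smul_smul, ← pow_add, add_comm]
    · convert hK i j using 1
      simp only [smul_sub, smul_smul]
      congr 2 <;> ring

theorem IsApprox.inf {P Q : Submodule A M} {x : ∀ i, L i} (hP : IsApprox ℓ g P x) (hQ : IsApprox ℓ g Q x) :
    IsApprox ℓ g (P ⊓ Q) x := by
  obtain ⟨k, m, hm⟩ := exists_frac (ℓ := ℓ) (g := g) x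
  obtain ⟨K, hK⟩ := (isApprox_iff hm).1 hP
  obtain ⟨K', hK'⟩ := (isApprox_iff hm).1 hQ
  refine (isApprox_iff hm).2 ⟨K + K', fun i j => ⟨?_, ?_⟩⟩
  · rw [add_comm, pow_add, mul_smul]; exact P.smul_mem _ (hK i j)
  · rw [pow_add, mul_smul]; exact Q.smul_mem _ (hK' i j)

theorem IsApprox.add {P : Submodule A M} {x y : ∀ i, L i} (hx : IsApprox ℓ g P x) (hy : IsApprox ℓ g P y) :
    IsApprox ℓ g P (x + y) := by
  obtain ⟨k, m, hm⟩ := exists_frac (ℓ := ℓ) (g := g) x
  obtain ⟨k', m', hm'⟩ := exists_frac (ℓ := ℓ) (g := g) y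
  have hxk : ∀ i, g i ^ (k + k') • x i = ℓ i (g i ^ k' • m i) := fun i => by
    rw [map_smul, ← hm, smul_smul, ← pow_add, add_comm]
  have hyk : ∀ i, g i ^ (k + k') • y i = ℓ i (g i ^ k • m' i) := fun i => by
    rw [map_smul, ← hm', smul_smul, ← pow_add]
  obtain ⟨K, hK⟩ := (isApprox_iff hxk).1 hx
  obtain ⟨K', hK'⟩ := (isApprox_iff hyk).1 hy
  refine (isApprox_iff (m := fun i => g i ^ k' • m i + g i ^ k • m' i)
    (fun i => by rw [Pi.add_apply, smul_add, hxk, hyk, map_add])).2 ⟨K + K', fun i j => ?_⟩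
  rw [smul_add, smul_add, add_sub_add_comm, smul_add]
  refine P.add_mem ?_ ?_
  · rw [add_comm, pow_add, mul_smul]; exact P.smul_mem _ (hK i j)
  · rw [pow_add, mul_smul]; exact P.smul_mem _ (hK' i j)

theorem isApprox_smul_range (a : A) (w : ∀ i, L i) :
    IsApprox ℓ g (LinearMap.range (LinearMap.lsmul A M a)) (a • w) := by
  obtain ⟨k, m, hm⟩ := exists_frac (ℓ := ℓ) (g := g) w
  refine ⟨k, a • m, fun i => ?_, fun i j => ⟨g j ^ k • m i - g i ^ k • m j, ?_⟩⟩
  · rw [Pi.smul_apply, Pi.smul_apply, map_smul, ← hm, smul_comm]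
  · simp only [LinearMap.lsmul_apply, Pi.smul_apply, smul_sub, smul_comm a]

section Map

variable {M' : Type u} [AddCommGroup M'] [Module A M'] {L' : Fin r → Type u} [∀ i, AddCommGroup (L' i)]
  [∀ i, Module A (L' i)] {ℓ' : ∀ i, M' →ₗ[A] L' i} [∀ i, IsLocalizedModule (Submonoid.powers (g i)) (ℓ' i)]
  {φ : M →ₗ[A] M'} {Φ : ∀ i, L i →ₗ[A] L' i}

theorem isApprox_map_iff (hΦ : ∀ i m, Φ i (ℓ i m) = ℓ' i (φ m)) {P' : Submodule A M'} {x : ∀ i, L i} :
    IsApprox ℓ' g P' (fun i => Φ i (x i)) ↔ IsApprox ℓ g (P'.comap φ) x := by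
  obtain ⟨k, m, hm⟩ := exists_frac (ℓ := ℓ) (g := g) x
  rw [isApprox_iff (m := fun i => φ (m i)) fun i => by rw [← map_smul, hm, hΦ], isApprox_iff hm]
  simp only [Submodule.mem_comap, map_smul, map_sub]

end Map

theorem isApprox_smul_iff {P : Submodule A M} (a : A) {x : ∀ i, L i} :
    IsApprox ℓ g P (a • x) ↔ IsApprox ℓ g (P.comap (LinearMap.lsmul A M a)) x :=
  isApprox_map_iff (φ := LinearMap.lsmul A M a) (Φ := fun i => LinearMap.lsmul A (L i) a)
    fun i m => (map_smul (ℓ i) a m).symm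

/-- A section divisible by `f ^ N` in each chart is divisible by `f ^ (N - e)` as a section. -/
theorem exists_eq_pow_smul {f : A} {e : ℕ} (he : ∀ (n : ℕ) (z : M), f ^ n • z = 0 → f ^ e • z = 0) (n : ℕ)
    {s : ∀ i, L i} (hs : IsSec ℓ g s) (h : ∀ i, ∃ y, s i = f ^ (n + e) • y) :
    ∃ t, IsSec ℓ g t ∧ s = f ^ n • t := by
  choose y hy using h
  have hs' : s = f ^ (n + e) • y := funext hy
  refine ⟨f ^ e • y, isApprox_bot.1 ?_, by rw [hs', smul_smul, ← pow_add]⟩
  rw [isApprox_smul_iff]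
  refine ((isApprox_smul_iff (P := ⊥) (f ^ (n + e))).1 (hs' ▸ isApprox_bot.2 hs)).mono fun z hz => ?_
  simp only [Submodule.mem_comap, Submodule.mem_bot, LinearMap.lsmul_apply] at hz ⊢
  exact he _ _ hz

section Map

variable {M' : Type u} [AddCommGroup M'] [Module A M'] {L' : Fin r → Type u} [∀ i, AddCommGroup (L' i)]
  [∀ i, Module A (L' i)] {ℓ' : ∀ i, M' →ₗ[A] L' i} [∀ i, IsLocalizedModule (Submonoid.powers (g i)) (ℓ' i)]
  {φ : M →ₗ[A] M'} {Φ : ∀ i, L i →ₗ[A] L' i}

/-- The map induced on sections. -/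
def secMap (hΦ : ∀ i m, Φ i (ℓ i m) = ℓ' i (φ m)) : secSub ℓ g →ₗ[A] secSub ℓ' g :=
  LinearMap.codRestrict _ ((LinearMap.pi fun i => Φ i ∘ₗ LinearMap.proj i) ∘ₗ (secSub ℓ g).subtype) fun x =>
    isApprox_bot.1 ((isApprox_map_iff hΦ).2 ((isApprox_bot.2 x.2).mono bot_le))

theorem secMap_toSec (hΦ : ∀ i m, Φ i (ℓ i m) = ℓ' i (φ m)) (m : M) :
    secMap hΦ (toSec ℓ g m) = toSec ℓ' g (φ m) :=
  Subtype.ext (funext fun i => hΦ i m)

include g in
theorem exists_pow_smul_eq_of_map_eq_zero (hΦ : ∀ i m, Φ i (ℓ i m) = ℓ' i (φ m)) {a : A}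
    (hker : LinearMap.ker φ = LinearMap.range (LinearMap.lsmul A M a)) {i : Fin r} {z : L i} (hz : Φ i z = 0) :
    ∃ w, a • w = z := by
  obtain ⟨k, m, hm⟩ := exists_pow_smul_mem (ℓ := ℓ) (g := g) i z
  obtain ⟨K, hK⟩ := exists_pow_smul_eq (ℓ := ℓ') (g := g) (i := i) (m := φ m) (m' := 0) (by
    rw [map_zero, ← hΦ, ← hm, map_smul, hz, smul_zero])
  obtain ⟨d, hd⟩ : g i ^ K • m ∈ LinearMap.range (LinearMap.lsmul A M a) :=
    hker ▸ LinearMap.mem_ker.2 (by rw [map_smul, hK, smul_zero])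
  obtain ⟨w, hw⟩ := (bijective_smul (ℓ := ℓ) (g := g) i (K + k)).2 (ℓ i d)
  refine ⟨w, (bijective_smul (ℓ := ℓ) (g := g) i (K + k)).1 ?_⟩
  have hd' : a • d = g i ^ K • m := hd
  show g i ^ (K + k) • a • w = g i ^ (K + k) • z
  rw [smul_comm, show g i ^ (K + k) • w = ℓ i d from hw, ← map_smul, hd', map_smul, ← hm, smul_smul, pow_add]

end Map

variable [IsNoetherianRing A] {I : Ideal A} (hg : Ideal.span (Set.range g) = I) {f : A}

include hg in
theorem exists_lift_aux (hfn : ∀ (N : ℕ) (z : M), f ^ N • z = 0 → z = 0) {c : ℕ}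
    (hc : ∀ z : (localCohomology I 2).obj (ModuleCat.of A (secSub ℓ g)), f ^ c • z = 0) {n : ℕ} {a : A}
    (ha : a = f ^ (n + c)) {M' : Type u} [AddCommGroup M'] [Module A M'] {L' : Fin r → Type u}
    [∀ i, AddCommGroup (L' i)] [∀ i, Module A (L' i)] {ℓ' : ∀ i, M' →ₗ[A] L' i}
    [∀ i, IsLocalizedModule (Submonoid.powers (g i)) (ℓ' i)] {q : M →ₗ[A] M'} (hqs : Function.Surjective q)
    (hqker : LinearMap.ker q = LinearMap.range (LinearMap.lsmul A M a)) {Φ : ∀ i, L i →ₗ[A] L' i}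
    (hΦ : ∀ i m, Φ i (ℓ i m) = ℓ' i (q m)) {x : ∀ i, L i}
    (hx : IsApprox ℓ g (LinearMap.range (LinearMap.lsmul A M a)) x) :
    ∃ s, IsSec ℓ g s ∧ ∀ i, ∃ w, s i = x i + f ^ n • w := by
  have hinj : ∀ (N : ℕ) (z : secSub ℓ g), f ^ N • z = 0 → z = 0 := fun N z hz => by
    refine Subtype.ext (funext fun i => ?_)
    have hzi : f ^ N • z.1 i = 0 := congrArg (fun v : secSub ℓ g => v.1 i) hz
    obtain ⟨k, m, hm⟩ := exists_pow_smul_mem (ℓ := ℓ) (g := g) i (z.1 i)
    obtain ⟨K, hK⟩ := exists_pow_smul_eq (ℓ := ℓ) (g := g) (i := i) (m := f ^ N • m) (m' := 0) (by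
      rw [map_zero, map_smul, ← hm, smul_comm, hzi, smul_zero])
    rw [smul_zero, smul_comm] at hK
    have hK0 := congrArg (ℓ i) (hfn N _ hK)
    rw [map_smul, ← hm, map_zero, smul_smul, ← pow_add] at hK0
    exact (bijective_smul (ℓ := ℓ) (g := g) i (K + k)).1 (hK0.trans (smul_zero _).symm)
  let ψ := secMap (g := g) hΦ
  let X := LinearMap.range ψ
  let π : secSub ℓ g →ₗ[A] X := ψ.rangeRestrict
  have hzero : ∀ t : secSub ℓ g, π (a • t) = 0 := fun t => Subtype.ext (Subtype.ext (funext fun i => by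
    show Φ i (a • t.1 i) = 0
    obtain ⟨k, m, hm⟩ := exists_pow_smul_mem (ℓ := ℓ) (g := g) i (t.1 i)
    refine (bijective_smul (ℓ := ℓ') (g := g) i k).1 ?_
    show g i ^ k • Φ i (a • t.1 i) = g i ^ k • 0
    rw [smul_zero, ← map_smul, smul_comm, hm, ← map_smul, hΦ,
      show q (a • m) = 0 from LinearMap.mem_ker.1 (by rw [hqker]; exact ⟨m, rfl⟩), map_zero]))
  let S : ShortComplex (ModuleCat.{u} A) :=
    ShortComplex.mk (ModuleCat.ofHom (LinearMap.lsmul A (secSub ℓ g) a))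
      (ModuleCat.ofHom (X := ↥(secSub ℓ g)) (Y := ↥X) π)
      (ModuleCat.hom_ext (LinearMap.ext fun t => by exact hzero t))
  have hS : S.ShortExact :=
    { exact := (ShortComplex.ShortExact.moduleCat_exact_iff_function_exact _).2 fun t => by
        refine ⟨fun ht => ?_, ?_⟩
        · have hti : ∀ i, Φ i (t.1 i) = 0 := fun i =>
            congrArg (fun v : X => v.1.1 i) (ht : π t = 0)
          choose y hy using fun i => exists_pow_smul_eq_of_map_eq_zero (g := g) hΦ hqker (hti i)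
          refine ⟨⟨y, isApprox_bot.1 (((isApprox_smul_iff (P := ⊥) a).1 ?_).mono fun z hz => ?_)⟩,
            Subtype.ext (funext hy)⟩
          · rw [show a • y = t.1 from funext hy]
            exact isApprox_bot.2 t.2
          · exact hfn _ z (by simpa [ha] using hz)
        · rintro ⟨v, rfl⟩
          exact hzero v
      mono_f := (ModuleCat.mono_iff_injective _).2 fun v w hvw => sub_eq_zero.1 (hinj (n + c) _ (by
        rw [← ha, smul_sub, sub_eq_zero]; exact hvw))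
      epi_g := (ModuleCat.epi_iff_surjective _).2 ψ.surjective_rangeRestrict }
  let j : X →ₗ[A] secSub ℓ' g := X.subtype
  have hT := injSeq_shortExact (M := ↥X) (N := ↥(secSub ℓ' g)) j Subtype.val_injective
  have hj : LinearMap.range j = X := Submodule.range_subtype X
  -- the cokernel is a torsion module injecting into `H^2` of the sections
  have h1 := subsingleton_H1_secSub hg ℓ
  have hδ1 : Function.Injective (LC.δH I 1 hS 2 rfl) := by
    rw [injective_iff_map_eq_zero]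
    intro z hz
    obtain ⟨w, rfl⟩ := (LC.exact₃ I 1 hS 2 rfl z).1 hz
    rw [Subsingleton.elim (α := (localCohomology I 1).obj (ModuleCat.of A (secSub ℓ g))) w 0, map_zero]
  have hXc : ∀ z : (localCohomology I 1).obj (ModuleCat.of A X), f ^ c • z = 0 := fun z =>
    hδ1 (by rw [map_smul, map_zero]; exact hc _)
  have hYc : ∀ z : (localCohomology I 0).obj (ModuleCat.of A (secSub ℓ' g ⧸ LinearMap.range j)),
      f ^ c • z = 0 := fun z =>
    δH_zero_injective hT (torsionSub_secSub hg ℓ') (by rw [map_smul, map_zero]; exact hXc _)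
  have htor : LocCoh.IsPowerTorsion I (secSub ℓ' g ⧸ LinearMap.range j) := by
    intro z
    obtain ⟨v, rfl⟩ := Submodule.mkQ_surjective _ z
    obtain ⟨N, hN⟩ := isPowerTorsion_coker_toSec hg ℓ' (Submodule.Quotient.mk v)
    refine ⟨N, fun b hb => ?_⟩
    have := hN b hb
    rw [← Submodule.Quotient.mk_smul, Submodule.Quotient.mk_eq_zero] at this
    obtain ⟨m', hm'⟩ := this
    obtain ⟨m, rfl⟩ := hqs m'
    rw [← map_smul, Submodule.mkQ_apply, Submodule.Quotient.mk_eq_zero, hj, ← hm']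
    exact ⟨toSec ℓ g m, secMap_toSec hΦ m⟩
  -- the given family is a section of the quotient
  have hxq : IsSec ℓ' g (fun i => Φ i (x i)) := isApprox_bot.1 ((isApprox_map_iff hΦ).2 (hx.mono (by
    rw [Submodule.comap_bot, hqker])))
  let v : DRing.torsionSub I (secSub ℓ' g ⧸ LinearMap.range j) :=
    ⟨Submodule.Quotient.mk ⟨_, hxq⟩, htor _⟩
  have hv := congrArg (LC.H0Equiv I (ModuleCat.of A (secSub ℓ' g ⧸ LinearMap.range j)))
    (hYc ((LC.H0Equiv I (ModuleCat.of A (secSub ℓ' g ⧸ LinearMap.range j))).symm v))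
  rw [map_smul, LinearEquiv.apply_symm_apply, map_zero] at hv
  have hv' : f ^ c • (Submodule.Quotient.mk ⟨_, hxq⟩ : secSub ℓ' g ⧸ LinearMap.range j) = 0 :=
    congrArg Subtype.val hv
  rw [← Submodule.Quotient.mk_smul, Submodule.Quotient.mk_eq_zero, hj] at hv'
  obtain ⟨t, ht⟩ := hv'
  have hti : ∀ i, Φ i (t.1 i - f ^ c • x i) = 0 := fun i => by
    rw [map_sub, map_smul, sub_eq_zero]
    exact congrArg (fun v : secSub ℓ' g => v.1 i) ht
  choose z hz using fun i => exists_pow_smul_eq_of_map_eq_zero (g := g) hΦ hqker (hti i)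
  refine ⟨fun i => x i + f ^ n • z i, ?_, fun i => ⟨z i, rfl⟩⟩
  refine isApprox_bot.1 (((isApprox_smul_iff (P := ⊥) (f ^ c)).1 ?_).mono fun w hw => hfn c w (by simpa using hw))
  rw [show f ^ c • (fun i => x i + f ^ n • z i) = t.1 from funext fun i => by
    rw [Pi.smul_apply, smul_add, smul_smul, ← pow_add, add_comm c n, ← ha, hz, add_sub_cancel]]
  exact isApprox_bot.2 t.2


include hg in
/-- Lifting when `f` is a nonzerodivisor on the module. -/
theorem exists_lift_of_injective (hf : Function.Injective fun z : M => f • z) (h2 : KilledH I f 2 M) :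
    ∃ c, ∀ (n : ℕ) (x : ∀ i, L i), IsApprox ℓ g (LinearMap.range (LinearMap.lsmul A M (f ^ (n + c)))) x →
      ∃ s, IsSec ℓ g s ∧ ∀ i, ∃ w, s i = x i + f ^ n • w := by
  obtain ⟨c, hc⟩ := killedH_two_secSub hg ℓ h2
  refine ⟨c, fun n x hx => ?_⟩
  have hfn : ∀ (N : ℕ) (z : M), f ^ N • z = 0 → z = 0 := fun N => by
    induction N with
    | zero => simp
    | succ N ih => exact fun z hz => ih z (hf (by simpa [pow_succ', mul_smul] using hz))
  let a : A := f ^ (n + c)
  let q : M →ₗ[A] M ⧸ LinearMap.range (LinearMap.lsmul A M a) := (LinearMap.range (LinearMap.lsmul A M a)).mkQ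
  let L' : Fin r → Type u := fun i => LocalizedModule (Submonoid.powers (g i))
    (M ⧸ LinearMap.range (LinearMap.lsmul A M a))
  let ℓ' : ∀ i, (M ⧸ LinearMap.range (LinearMap.lsmul A M a)) →ₗ[A] L' i :=
    fun i => LocalizedModule.mkLinearMap _ _
  let Φ : ∀ i, L i →ₗ[A] L' i := fun i => IsLocalizedModule.map (Submonoid.powers (g i)) (ℓ i) (ℓ' i) q
  have hΦ : ∀ i m, Φ i (ℓ i m) = ℓ' i (q m) := fun i m => IsLocalizedModule.map_apply _ _ _ _ _
  exact exists_lift_aux (ℓ := ℓ) (ℓ' := ℓ') (Φ := Φ) (q := q) hg hfn hc rfl (Submodule.mkQ_surjective _)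
    (Submodule.ker_mkQ _) hΦ hx

include hg in
/-- Lifting of sections from quotients by powers of `f`. -/
theorem exists_lift [Module.Finite A M] (h2 : KilledH I f 2 M) :
    ∃ c, ∀ (n : ℕ) (x : ∀ i, L i), IsApprox ℓ g (LinearMap.range (LinearMap.lsmul A M (f ^ (n + c)))) x →
      ∃ s, IsSec ℓ g s ∧ ∀ i, ∃ w, s i = x i + f ^ n • w := by
  let T := DRing.torsionSub (Ideal.span {f}) M
  obtain ⟨e, he⟩ := LC.AdjRows.exists_pow_kill_torsion (Ideal.span {f}) M
  have heT : ∀ z ∈ T, f ^ e • z = 0 := fun z hz =>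
    Submodule.mem_annihilator.1 (he (Ideal.pow_mem_pow (Ideal.mem_span_singleton_self f) e)) z hz
  have hTmem : ∀ (N : ℕ) (z : M), f ^ N • z = 0 → z ∈ T := fun N z hz => ⟨N, fun b hb => by
    rw [Ideal.span_singleton_pow, Ideal.mem_span_singleton'] at hb
    obtain ⟨b, rfl⟩ := hb
    rw [mul_smul, hz, smul_zero]⟩
  let q : M →ₗ[A] M ⧸ T := T.mkQ
  have hq : Function.Injective fun z : M ⧸ T => f • z := fun u v huv => by
    obtain ⟨u, rfl⟩ := T.mkQ_surjective u
    obtain ⟨v, rfl⟩ := T.mkQ_surjective v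
    have h : f • (u - v) ∈ T := by
      rw [← Submodule.Quotient.mk_eq_zero, ← Submodule.mkQ_apply, map_smul, map_sub, smul_sub, sub_eq_zero]
      exact huv
    rw [← sub_eq_zero, ← map_sub, Submodule.mkQ_apply, Submodule.Quotient.mk_eq_zero]
    exact hTmem (e + 1) _ (by rw [pow_succ, mul_smul, heT _ h])
  have hS := surjSeq_shortExact (M := M) (N := M ⧸ T) q T.mkQ_surjective
  have h2' : KilledH I f 2 (M ⧸ T) := killedBy_of_exact f (LC.exact₃ I 2 hS 3 rfl) h2
    ⟨e, fun z => LC.smul_eq_zero_of_forall I 3 (f ^ e) (fun m => Subtype.ext (heT _ (by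
      simpa [q] using m.2))) z⟩
  let L' : Fin r → Type u := fun i => LocalizedModule (Submonoid.powers (g i)) (M ⧸ T)
  let ℓ' : ∀ i, (M ⧸ T) →ₗ[A] L' i := fun i => LocalizedModule.mkLinearMap _ _
  let Φ : ∀ i, L i →ₗ[A] L' i := fun i => IsLocalizedModule.map (Submonoid.powers (g i)) (ℓ i) (ℓ' i) q
  have hΦ : ∀ i m, Φ i (ℓ i m) = ℓ' i (q m) := fun i m => IsLocalizedModule.map_apply _ _ _ _ _
  obtain ⟨c, hc⟩ := exists_lift_of_injective (ℓ := ℓ') hg hq h2'
  refine ⟨c + e, fun n x hx => ?_⟩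
  obtain ⟨s, hs, hsx⟩ := hc (n + e) (fun i => Φ i (x i)) ((isApprox_map_iff hΦ).2 (hx.mono (by
    rintro _ ⟨z, rfl⟩
    refine ⟨q z, ?_⟩
    simp only [LinearMap.lsmul_apply, map_smul]
    rw [show n + e + c = n + (c + e) by omega])))
  choose w' hw' using hsx
  choose w hw using fun i =>
    IsLocalizedModule.map_surjective (Submonoid.powers (g i)) (ℓ i) (ℓ' i) q T.mkQ_surjective (w' i)
  refine ⟨x + f ^ (n + e) • w, isApprox_bot.1 ?_, fun i => ⟨f ^ e • w i, by
    rw [Pi.add_apply, Pi.smul_apply, smul_smul, ← pow_add]⟩⟩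
  have hT' : IsApprox ℓ g T (x + f ^ (n + e) • w) := by
    have := (isApprox_map_iff (x := x + f ^ (n + e) • w) (P' := ⊥) hΦ).1 (by
      rw [show (fun i => Φ i ((x + f ^ (n + e) • w) i)) = s from funext fun i => by
        rw [hw', Pi.add_apply, Pi.smul_apply, map_add, map_smul, show Φ i (w i) = w' i from hw i]]
      exact isApprox_bot.2 hs)
    rwa [Submodule.comap_bot, show LinearMap.ker q = T from Submodule.ker_mkQ T] at this
  have hF : IsApprox ℓ g (LinearMap.range (LinearMap.lsmul A M (f ^ (n + e)))) (x + f ^ (n + e) • w) :=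
    (hx.mono (by
      rintro _ ⟨z, rfl⟩
      exact ⟨f ^ c • z, by simp only [LinearMap.lsmul_apply, smul_smul, ← pow_add]; congr 2; omega⟩)).add
      (isApprox_smul_range _ _)
  refine (hT'.inf hF).mono ?_
  rintro _ ⟨hz, z, rfl⟩
  simp only [LinearMap.lsmul_apply] at hz ⊢
  have hzT : z ∈ T := hTmem (e + (n + e)) z (by rw [pow_add, mul_smul]; exact heT _ hz)
  rw [Submodule.mem_bot, pow_add, mul_smul, heT z hzT, smul_zero]

end Groth.Agent.H9Lef

end
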