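import Groth.Agent.H9Lef.SecLift
import Groth.Agent.AdicLib.Basic

/-!
# Limits of sections along powers of `f`
-/

set_option autoImplicit false
set_option linter.style.haveILetI false

universe u

noncomputable section

namespace Groth.Agent.H9Lef

open Groth.Agent

variable {A : Type u} [CommRing A] [IsNoetherianRing A] {f : A} [IsAdicComplete (Ideal.span {f}) A]
  {M : Type u} [AddCommGroup M] [Module A M] [Module.Finite A M]

omit [IsNoetherianRing A] [IsAdicComplete (Ideal.span {f}) A] in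
variable (f M) in
theorem exists_torsion_exponent [IsNoetherianRing A] :
    ∃ e, ∀ (n : ℕ) (z : M), f ^ n • z = 0 → f ^ e • z = 0 := by
  obtain ⟨e, he⟩ := LC.AdjRows.exists_pow_kill_torsion (Ideal.span {f}) M
  refine ⟨e, fun n z hz => Submodule.mem_annihilator.1
    (he (Ideal.pow_mem_pow (Ideal.mem_span_singleton_self f) e)) z ⟨n, fun b hb => ?_⟩⟩
  rw [Ideal.span_singleton_pow, Ideal.mem_span_singleton'] at hb
  obtain ⟨b, rfl⟩ := hb
  rw [mul_smul, hz, smul_zero]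

omit [IsNoetherianRing A] [IsAdicComplete (Ideal.span {f}) A] [Module.Finite A M] in
theorem mem_span_pow_smul_top {n : ℕ} {x : M} :
    x ∈ (Ideal.span {f} ^ n • ⊤ : Submodule A M) ↔ ∃ w, f ^ n • w = x := by
  rw [Ideal.span_singleton_pow, Submodule.ideal_span_singleton_smul]
  exact (Submodule.mem_smul_pointwise_iff_exists x (f ^ n) ⊤).trans
    ⟨fun ⟨w, _, h⟩ => ⟨w, h⟩, fun ⟨w, h⟩ => ⟨w, trivial, h⟩⟩

variable (f) in
/-- A series with powers of `f` converges. -/
theorem exists_series (m : ℕ → M) : ∃ l, ∀ n, ∃ w, l - ∑ k ∈ Finset.range n, f ^ k • m k = f ^ n • w := by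
  haveI : IsAdicComplete (Ideal.span {f}) M := AdicLib.isAdicComplete_of_finite _ _
  obtain ⟨l, hl⟩ := IsPrecomplete.prec (I := Ideal.span {f}) inferInstance
    (f := fun n => ∑ k ∈ Finset.range n, f ^ k • m k) fun {a b} hab => by
    rw [SModEq.sub_mem, mem_span_pow_smul_top]
    refine ⟨-∑ k ∈ Finset.Ico a b, f ^ (k - a) • m k, ?_⟩
    rw [← Finset.sum_range_add_sum_Ico (fun k => f ^ k • m k) hab, sub_add_cancel_left, smul_neg, neg_inj, Finset.smul_sum]
    refine Finset.sum_congr rfl fun k hk => ?_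
    rw [smul_smul, ← pow_add, Nat.add_sub_cancel' (Finset.mem_Ico.1 hk).1]
  refine ⟨l, fun n => ?_⟩
  obtain ⟨w, hw⟩ := mem_span_pow_smul_top.1 (SModEq.sub_mem.1 (hl n))
  exact ⟨-w, by rw [smul_neg, hw, neg_sub]⟩

variable (f) in
theorem eq_zero_of_forall_pow (x : M) (h : ∀ n, ∃ w, f ^ n • w = x) : x = 0 := by
  haveI : IsAdicComplete (Ideal.span {f}) M := AdicLib.isAdicComplete_of_finite _ _
  exact IsHausdorff.haus (I := Ideal.span {f}) inferInstance x fun n =>
    SModEq.zero.2 (mem_span_pow_smul_top.2 (h n))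

variable {r : ℕ} {g : Fin r → A} {L : Fin r → Type u} [∀ i, AddCommGroup (L i)] [∀ i, Module A (L i)]
  {ℓ : ∀ i, M →ₗ[A] L i} [∀ i, IsLocalizedModule (Submonoid.powers (g i)) (ℓ i)] {I : Ideal A}
  (hg : Ideal.span (Set.range g) = I)

include hg in
/-- Sections are separated for the powers of `f`. -/
theorem sec_separated (h1 : KilledH I f 1 M) {s : ∀ i, L i} (hs : IsSec ℓ g s)
    (h : ∀ n i, ∃ y, s i = f ^ n • y) : s = 0 := by
  obtain ⟨e, he⟩ := exists_torsion_exponent f M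
  obtain ⟨c, hc⟩ := exists_pow_smul_mem_range hg ℓ h1
  have key : ∀ n, ∃ w : M, f ^ n • toSec ℓ g w = ⟨s, hs⟩ := fun n => by
    obtain ⟨t, ht, hst⟩ := exists_eq_pow_smul (f := f) he (n + c) hs (fun i => h _ i)
    obtain ⟨w, hw⟩ := hc ⟨t, ht⟩
    refine ⟨w, ?_⟩
    rw [hw, smul_smul, ← pow_add]
    exact Subtype.ext hst.symm
  obtain ⟨w₀, hw₀⟩ := key 0
  haveI : Module.Finite A (LinearMap.range (toSec ℓ g)) :=
    Module.Finite.of_surjective _ (toSec ℓ g).surjective_rangeRestrict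
  have h0 := eq_zero_of_forall_pow f (⟨⟨s, hs⟩, w₀, by rw [← hw₀, pow_zero, one_smul]⟩ : LinearMap.range (toSec ℓ g))
    fun n => by
      obtain ⟨w, hw⟩ := key n
      exact ⟨⟨_, w, rfl⟩, Subtype.ext hw⟩
  exact congrArg (fun z : LinearMap.range (toSec ℓ g) => z.1.1) h0

include hg in
/-- Compatible families modulo all powers of `f` come from sections. -/
theorem exists_sec_limit (h1 : KilledH I f 1 M) (h2 : KilledH I f 2 M) (x : ℕ → ∀ i, L i)
    (hx : ∀ n, IsApprox ℓ g (LinearMap.range (LinearMap.lsmul A M (f ^ (n + 1)))) (x n))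
    (hxx : ∀ n i, ∃ w, x (n + 1) i = x n i + f ^ (n + 1) • w) :
    ∃ s, IsSec ℓ g s ∧ ∀ n i, ∃ w, s i = x n i + f ^ (n + 1) • w := by
  obtain ⟨e, he⟩ := exists_torsion_exponent f M
  obtain ⟨c, hc⟩ := exists_pow_smul_mem_range hg ℓ h1
  obtain ⟨d, hd⟩ := exists_lift (ℓ := ℓ) hg h2
  have hle : ∀ n k i, ∃ w, x (n + k) i = x n i + f ^ (n + 1) • w := fun n k i => by
    induction k with
    | zero => exact ⟨0, by simp⟩
    | succ k ih =>
      obtain ⟨w, hw⟩ := ih
      obtain ⟨w', hw'⟩ := hxx (n + k) i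
      refine ⟨w + f ^ k • w', ?_⟩
      rw [show n + (k + 1) = n + k + 1 from rfl, hw', hw, smul_add, smul_smul, ← pow_add, add_assoc]
      congr 4
      omega
  choose s hs w hw using fun n => hd n (x (n + d)) ((hx (n + d)).mono (by
    rintro _ ⟨z, rfl⟩
    exact ⟨f • z, by simp [smul_smul, pow_succ, mul_comm]⟩))
  let N₀ := c + e
  have hdiff : ∀ k, ∃ m : M, s (k + N₀ + 1) = s (k + N₀) + f ^ k • (toSec ℓ g m).1 := fun k => by
    have hsec : IsSec ℓ g (s (k + N₀ + 1) - s (k + N₀)) :=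
      (secSub ℓ g).sub_mem (hs _) (hs _)
    obtain ⟨t, ht, hst⟩ := exists_eq_pow_smul (f := f) he (k + c) hsec fun i => by
      obtain ⟨v, hv⟩ := hxx (k + N₀ + d) i
      refine ⟨f • w (k + N₀ + 1) i - w (k + N₀) i + f ^ (d + 1) • v, ?_⟩
      rw [Pi.sub_apply, hw, hw, show k + N₀ + 1 + d = k + N₀ + d + 1 by omega, hv, smul_add, smul_sub,
        smul_smul, smul_smul, ← pow_add, ← pow_succ, show k + c + e = k + N₀ by omega,
        show k + N₀ + (d + 1) = k + N₀ + d + 1 by omega]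
      abel
    obtain ⟨m, hm⟩ := hc ⟨t, ht⟩
    refine ⟨m, ?_⟩
    rw [show ((toSec ℓ g m).1 : ∀ i, L i) = f ^ c • t from congrArg Subtype.val hm, smul_smul, ← pow_add, ← hst]
    abel
  choose m hm using hdiff
  obtain ⟨l, hl⟩ := exists_series f m
  have hsum : ∀ k, s (k + N₀) = s N₀ + (toSec ℓ g (∑ j ∈ Finset.range k, f ^ j • m j)).1 := fun k => by
    induction k with
    | zero => simp
    | succ k ih =>
      rw [Finset.sum_range_succ, map_add, map_smul, show k + 1 + N₀ = k + N₀ + 1 by omega, hm, ih]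
      simp [add_assoc]
  refine ⟨s N₀ + (toSec ℓ g l).1, (secSub ℓ g).add_mem (hs _) (toSec ℓ g l).2, fun n i => ?_⟩
  obtain ⟨v, hv⟩ := hl (n + 1)
  obtain ⟨v', hv'⟩ := hle n (1 + N₀ + d) i
  refine ⟨v' + f ^ N₀ • w (n + 1 + N₀) i + ℓ i v, ?_⟩
  rw [eq_add_of_sub_eq hv, map_add, map_smul]
  have e1 := congrFun (hsum (n + 1)) i
  rw [hw, show n + 1 + N₀ + d = n + (1 + N₀ + d) by omega, hv', Pi.add_apply] at e1
  simp only [Pi.add_apply, Submodule.coe_add, Submodule.coe_smul, Pi.smul_apply, toSec_apply, smul_add, smul_smul,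
    ← pow_add]
  rw [show s N₀ i + (f ^ (n + 1) • ℓ i v + ℓ i (∑ j ∈ Finset.range (n + 1), f ^ j • m j)) =
    s N₀ i + ℓ i (∑ j ∈ Finset.range (n + 1), f ^ j • m j) + f ^ (n + 1) • ℓ i v by abel]
  rw [toSec_apply] at e1
  rw [← e1]
  abel

end Groth.Agent.H9Lef

end
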