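import Mathlib.Algebra.Module.LocalizedModule.Basic
import Mathlib.RingTheory.Noetherian.Basic
import Mathlib.RingTheory.Ideal.Operations

/-!
# Sections of a module on a union of standard opens

For a finite family `g` and localisations `ℓ i : N → L i`, the sections of `N` on `⋃ D(g i)` are the families
of fractions `n i / g i ^ k` with `g j ^ k • n i = g i ^ k • n j`.
-/

set_option autoImplicit false

universe u

namespace Groth.Agent.H9Lef

variable {A : Type u} [CommRing A] {r : ℕ} {g : Fin r → A} {N : Type u} [AddCommGroup N] [Module A N]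
  {L : Fin r → Type u} [∀ i, AddCommGroup (L i)] [∀ i, Module A (L i)] (ℓ : ∀ i, N →ₗ[A] L i)

/-- A compatible family of fractions. -/
def IsSec (g : Fin r → A) (x : ∀ i, L i) : Prop :=
  ∃ (k : ℕ) (n : Fin r → N), (∀ i, g i ^ k • x i = ℓ i (n i)) ∧ ∀ i j, g j ^ k • n i = g i ^ k • n j

variable {ℓ}

/-- The exponent of a compatible family may be raised. -/
theorem isSec_witness_mono {x : ∀ i, L i} {k : ℕ} {n : Fin r → N} (h1 : ∀ i, g i ^ k • x i = ℓ i (n i))
    (h2 : ∀ i j, g j ^ k • n i = g i ^ k • n j) {k' : ℕ} (hk : k ≤ k') :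
    ∃ n' : Fin r → N, (∀ i, g i ^ k' • x i = ℓ i (n' i)) ∧ ∀ i j, g j ^ k' • n' i = g i ^ k' • n' j := by
  obtain ⟨d, rfl⟩ := Nat.exists_eq_add_of_le hk
  refine ⟨fun i => g i ^ d • n i, fun i => ?_, fun i j => ?_⟩
  · rw [map_smul, ← h1, smul_smul, ← pow_add, add_comm]
  · calc g j ^ (k + d) • g i ^ d • n i = (g j ^ d * g i ^ d) • g j ^ k • n i := by
          rw [smul_smul, smul_smul]; congr 1; ring
      _ = (g j ^ d * g i ^ d) • g i ^ k • n j := by rw [h2]
      _ = g i ^ (k + d) • g j ^ d • n j := by rw [smul_smul, smul_smul]; congr 1; ring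

variable (ℓ) in
/-- The module of sections. -/
def secSub (g : Fin r → A) : Submodule A (∀ i, L i) where
  carrier := {x | IsSec ℓ g x}
  zero_mem' := ⟨0, 0, fun i => by simp, fun i j => by simp⟩
  add_mem' := by
    rintro x y ⟨k, n, h1, h2⟩ ⟨k', n', h1', h2'⟩
    obtain ⟨a, ha1, ha2⟩ := isSec_witness_mono h1 h2 (le_max_left k k')
    obtain ⟨b, hb1, hb2⟩ := isSec_witness_mono h1' h2' (le_max_right k k')
    exact ⟨max k k', a + b, fun i => by simp only [Pi.add_apply, smul_add, map_add, ha1, hb1],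
      fun i j => by simp only [Pi.add_apply, smul_add, ha2 i j, hb2 i j]⟩
  smul_mem' := by
    rintro c x ⟨k, n, h1, h2⟩
    exact ⟨k, c • n, fun i => by simp only [Pi.smul_apply, map_smul, smul_comm (g i ^ k) c, h1],
      fun i j => by simp only [Pi.smul_apply, smul_comm _ c, h2 i j]⟩

theorem mem_secSub {x : ∀ i, L i} : x ∈ secSub ℓ g ↔ IsSec ℓ g x := Iff.rfl

variable (ℓ) in
/-- An element of the module is a section. -/
def toSec (g : Fin r → A) : N →ₗ[A] secSub ℓ g :=
  LinearMap.codRestrict _ (LinearMap.pi ℓ) fun n => ⟨0, fun _ => n, fun i => by simp, fun i j => by simp⟩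

theorem toSec_apply (n : N) (i : Fin r) : (toSec ℓ g n).1 i = ℓ i n := rfl

variable [∀ i, IsLocalizedModule (Submonoid.powers (g i)) (ℓ i)]

theorem exists_pow_smul_eq {i : Fin r} {m m' : N} (h : ℓ i m = ℓ i m') : ∃ K, g i ^ K • m = g i ^ K • m' := by
  obtain ⟨⟨_, K, rfl⟩, hK⟩ := (IsLocalizedModule.eq_iff_exists (Submonoid.powers (g i)) (ℓ i)).1 h
  exact ⟨K, hK⟩

theorem exists_pow_smul_mem (i : Fin r) (y : L i) : ∃ k m, g i ^ k • y = ℓ i m := by
  obtain ⟨⟨m, ⟨_, k, rfl⟩⟩, hk⟩ := IsLocalizedModule.surj (Submonoid.powers (g i)) (ℓ i) y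
  exact ⟨k, m, hk⟩

include ℓ in
theorem bijective_smul (i : Fin r) (k : ℕ) : Function.Bijective fun y : L i => g i ^ k • y :=
  (Module.End.isUnit_iff _).1
    (IsLocalizedModule.map_units (ℓ i) ⟨g i ^ k, pow_mem (Submonoid.mem_powers _) k⟩)

/-- Denominators of compatible fractions can be cleared at one exponent. -/
theorem exists_uniform_eq {a b : Fin r → N} (h : ∀ i, ℓ i (a i) = ℓ i (b i)) :
    ∃ K, ∀ i, g i ^ K • a i = g i ^ K • b i := by
  choose K hK using fun i => exists_pow_smul_eq (g := g) (h i)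
  refine ⟨Finset.univ.sup K, fun i => ?_⟩
  obtain ⟨d, hd⟩ := Nat.exists_eq_add_of_le (Finset.le_sup (f := K) (Finset.mem_univ i))
  rw [hd, add_comm, pow_add, mul_smul, mul_smul, hK]

/-- If a section is killed by every `g i` power it is zero. -/
theorem secSub_eq_zero {x : secSub ℓ g} {k : ℕ} (h : ∀ j, g j ^ k • x = 0) : x = 0 :=
  Subtype.ext (funext fun i => (bijective_smul (ℓ := ℓ) (g := g) i k).1 (by
    simpa using congrArg (fun y : secSub ℓ g => y.1 i) (h i)))

/-- Sections extend across the complement. -/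
theorem exists_extend {ι : Type u} [AddCommGroup ι] [Module A ι] (v : ι →ₗ[A] A) {k : ℕ}
    (e : Fin r → ι) (he : ∀ i, v (e i) = g i ^ k) (f : ι →ₗ[A] secSub ℓ g)
    (hf : ∀ a b : ι, v a • f b = v b • f a) : ∃ σ : secSub ℓ g, ∀ a, f a = v a • σ := by
  let σ₀ : ∀ i, L i := fun i => Classical.choose ((bijective_smul (ℓ := ℓ) (g := g) i k).2 ((f (e i)).1 i))
  have hσ₀ : ∀ i, g i ^ k • σ₀ i = (f (e i)).1 i :=
    fun i => Classical.choose_spec ((bijective_smul (ℓ := ℓ) (g := g) i k).2 ((f (e i)).1 i))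
  have hcomp : ∀ i j : Fin r, g j ^ k • (f (e i)).1 j = g i ^ k • (f (e j)).1 j := fun i j => by
    rw [← he i, ← he j]
    exact congrArg (fun y : secSub ℓ g => y.1 j) (hf (e j) (e i))
  have hσ : IsSec ℓ g σ₀ := by
    choose K n hn1 hn2 using fun i => (f (e i)).2
    let K₀ := Finset.univ.sup K
    choose n' hn1' hn2' using fun i => isSec_witness_mono (hn1 i) (hn2 i) (Finset.le_sup (f := K) (Finset.mem_univ i))
    -- the diagonal fractions represent `σ₀`
    have key : ∀ i, g i ^ (K₀ + k) • σ₀ i = ℓ i (n' i i) := fun i => by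
      rw [pow_add, mul_smul, hσ₀, hn1']
    have hij : ∀ i j, ℓ j (g j ^ k • n' i j) = ℓ j (g i ^ k • n' j j) := fun i j => by
      rw [map_smul, map_smul, ← hn1', ← hn1', smul_comm, smul_comm (g i ^ k), hcomp]
    choose T hT using fun i => exists_uniform_eq (g := g) (a := fun j => g j ^ k • n' i j) (b := fun j => g i ^ k • n' j j) (hij i)
    let T₀ := Finset.univ.sup T
    refine ⟨K₀ + k + T₀, fun i => g i ^ T₀ • n' i i, fun i => ?_, fun i j => ?_⟩
    · rw [map_smul, ← key, pow_add _ (K₀ + k), mul_comm, mul_smul]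
    · obtain ⟨d, hd⟩ := Nat.exists_eq_add_of_le (Finset.le_sup (f := T) (Finset.mem_univ i))
      calc g j ^ (K₀ + k + T₀) • g i ^ T₀ • n' i i
            = (g i ^ T₀ * g j ^ (k + T₀)) • g j ^ K₀ • n' i i := by
              rw [smul_smul, smul_smul]; congr 1; ring
        _ = (g i ^ T₀ * g j ^ (k + T₀)) • g i ^ K₀ • n' i j := by rw [hn2']
        _ = (g i ^ (T₀ + K₀) * g j ^ d) • g j ^ T i • g j ^ k • n' i j := by
              simp only [smul_smul]; congr 1; simp only [T₀, hd]; ring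
        _ = (g i ^ (T₀ + K₀) * g j ^ d) • g j ^ T i • g i ^ k • n' j j := by rw [hT]
        _ = g i ^ (K₀ + k + T₀) • g j ^ T₀ • n' j j := by
              simp only [smul_smul]; congr 1; simp only [T₀, hd]; ring
  refine ⟨⟨σ₀, hσ⟩, fun a => Subtype.ext (funext fun j => ?_)⟩
  refine (bijective_smul (ℓ := ℓ) (g := g) j k).1 ?_
  show g j ^ k • (f a).1 j = g j ^ k • v a • σ₀ j
  rw [smul_comm _ (v a), hσ₀, ← he j]
  exact congrArg (fun y : secSub ℓ g => y.1 j) (hf (e j) a)

end Groth.Agent.H9Lef
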