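import Groth.Agent.H9Lef.Cover
import Groth.Agent.H9Lef.SecAlg

/-!
# The punctured spectrum and its closed subscheme cut out by an ideal
-/

set_option autoImplicit false
set_option linter.style.haveILetI false

universe u

open CategoryTheory CategoryTheory.Limits AlgebraicGeometry IsLocalRing Groth.Agent.Pi1Ext.RegPurity
  Groth.Agent.Pi1Ext.PuritySch

noncomputable section

namespace Groth.Agent.H9Lef

open Groth.Agent Groth.Agent.H9Pur

set_option backward.isDefEq.respectTransparency false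
set_option backward.isDefEq.respectTransparency.types false

variable {A : Type u} [CommRing A]

/-- The closed immersion cut out by an ideal. -/
abbrev qSpec (J : Ideal A) : Spec (CommRingCat.of (A ⧸ J)) ⟶ Spec (CommRingCat.of A) :=
  Spec.map (CommRingCat.ofHom (Ideal.Quotient.mk J))

theorem exists_factor_quot {R : Type u} [CommRing R] [Algebra A R] (J : Ideal A) {K : Ideal R}
    (hK : K ≤ J.map (algebraMap A R)) {Q : Scheme.{u}}
    (x : Q ⟶ Spec (CommRingCat.of R)) (y : Q ⟶ Spec (CommRingCat.of (A ⧸ J))) (w : x ≫ sp A R = y ≫ qSpec J) :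
    ∃ z : Q ⟶ Spec (CommRingCat.of (R ⧸ K)),
      z ≫ Spec.map (CommRingCat.ofHom (Ideal.Quotient.mk K)) = x := by
  let φ : CommRingCat.of R ⟶ Γ(Q, ⊤) := (Scheme.ΓSpecIso (CommRingCat.of R)).inv ≫ x.appTop
  let ψ : CommRingCat.of (A ⧸ J) ⟶ Γ(Q, ⊤) := (Scheme.ΓSpecIso (CommRingCat.of (A ⧸ J))).inv ≫ y.appTop
  have hw : CommRingCat.ofHom (algebraMap A R) ≫ φ = CommRingCat.ofHom (Ideal.Quotient.mk J) ≫ ψ := by
    have h1 := congrArg (fun t : Q ⟶ Spec (CommRingCat.of A) =>
      (Scheme.ΓSpecIso (CommRingCat.of A)).inv ≫ t.appTop) w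
    simp only [Scheme.Hom.comp_appTop] at h1
    rw [← Category.assoc, ← Category.assoc, ← Scheme.ΓSpecIso_inv_naturality, ← Scheme.ΓSpecIso_inv_naturality] at h1
    simpa [φ, ψ, Category.assoc] using h1
  have hker : ∀ a ∈ K, φ.hom a = 0 := fun a ha => by
    have hle : J.map (algebraMap A R) ≤ RingHom.ker φ.hom := Ideal.map_le_iff_le_comap.2 fun j hj => by
      rw [Ideal.mem_comap, RingHom.mem_ker]
      refine (ConcreteCategory.congr_hom hw j).trans ?_
      show ψ.hom (Ideal.Quotient.mk J j) = 0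
      rw [Ideal.Quotient.eq_zero_iff_mem.2 hj, map_zero]
    exact hle (hK ha)
  refine ⟨Q.toSpecΓ ≫ Spec.map (CommRingCat.ofHom (Ideal.Quotient.lift K φ.hom hker)), ?_⟩
  rw [Category.assoc, ← Spec.map_comp,
    show CommRingCat.ofHom (Ideal.Quotient.mk K) ≫ CommRingCat.ofHom (Ideal.Quotient.lift K φ.hom hker) = φ from
      CommRingCat.hom_ext (Ideal.Quotient.lift_comp_mk K φ.hom hker)]
  show Q.toSpecΓ ≫ Spec.map ((Scheme.ΓSpecIso (CommRingCat.of R)).inv ≫ x.appTop) = x
  rw [Spec.map_comp, ← Category.assoc, ← Scheme.toSpecΓ_naturality, Category.assoc,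
    toSpecΓ_SpecMap_ΓSpecIso_inv, Category.comp_id]

variable [IsLocalRing A] (J : Ideal A) [IsLocalRing (A ⧸ J)]

theorem qSpec_preimage : qSpec J ⁻¹ᵁ FEt.puncturedSpec A = FEt.puncturedSpec (A ⧸ J) := by
  ext x
  have hmax : (maximalIdeal (A ⧸ J)).comap (Ideal.Quotient.mk J) = maximalIdeal A :=
    IsLocalRing.eq_maximalIdeal (Ideal.comap_isMaximal_of_surjective _ Ideal.Quotient.mk_surjective)
  show PrimeSpectrum.comap (Ideal.Quotient.mk J) x ≠ closedPoint A ↔ x ≠ closedPoint (A ⧸ J)
  refine not_congr ⟨fun h => PrimeSpectrum.ext ?_, fun h => ?_⟩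
  · refine Ideal.comap_injective_of_surjective _ Ideal.Quotient.mk_surjective ?_
    exact (congrArg PrimeSpectrum.asIdeal h).trans hmax.symm
  · subst h
    exact PrimeSpectrum.ext hmax

/-- The map of punctured spectra. -/
def jP : (FEt.puncturedSpec (A ⧸ J) : Scheme.{u}) ⟶ (FEt.puncturedSpec A : Scheme.{u}) :=
  IsOpenImmersion.lift (FEt.puncturedSpec A).ι ((FEt.puncturedSpec (A ⧸ J)).ι ≫ qSpec J) (by
    rw [Scheme.Opens.range_ι]
    rintro _ ⟨x, rfl⟩
    have h : (FEt.puncturedSpec (A ⧸ J)).ι x ∈ qSpec J ⁻¹ᵁ FEt.puncturedSpec A := by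
      rw [qSpec_preimage]; exact x.2
    exact h)

@[reassoc]
theorem jP_ι : jP J ≫ (FEt.puncturedSpec A).ι = (FEt.puncturedSpec (A ⧸ J)).ι ≫ qSpec J :=
  IsOpenImmersion.lift_fac _ _ _

theorem isPullback_jP :
    IsPullback (jP J) (FEt.puncturedSpec (A ⧸ J)).ι (FEt.puncturedSpec A).ι (qSpec J) :=
  IsOpenImmersion.isPullback _ _ _ _ (jP_ι J).symm (by
    rw [Scheme.Opens.opensRange_ι, Scheme.Opens.opensRange_ι, qSpec_preimage])

instance : IsClosedImmersion (qSpec J) := IsClosedImmersion.spec_of_surjective _ Ideal.Quotient.mk_surjective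

instance mono_jP : Mono (jP J) := by
  haveI : Mono (jP J ≫ (FEt.puncturedSpec A).ι) := by rw [jP_ι]; infer_instance
  exact mono_of_mono (jP J) (FEt.puncturedSpec A).ι

variable {B C : Type u} [CommRing B] [CommRing C] [Algebra A B] [Algebra A C] {g g' : A}

/-- The reduction of the restriction of the spectrum of an algebra. -/
abbrev redP (C : Type u) [CommRing C] [Algebra A C] : Scheme.{u} := pullback (rest A C) (jP J)

/-- The map to the spectrum of the algebra. -/
abbrev redFst (C : Type u) [CommRing C] [Algebra A C] : redP J C ⟶ Spec (CommRingCat.of C) :=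
  pullback.fst (rest A C) (jP J) ≫ pullback.fst (sp A C) (FEt.puncturedSpec A).ι

instance mono_redFst : Mono (redFst J C) := by
  haveI : Mono (pullback.fst (sp A C) (FEt.puncturedSpec A).ι) := inferInstance
  haveI : Mono (pullback.fst (rest A C) (jP J)) := inferInstance
  exact mono_comp _ _

omit [IsLocalRing A] [IsLocalRing (A ⧸ J)] in
theorem Th_zero_le (g : A) : Th J C 0 g ≤ J.map (algebraMap A (H9Pur.L C g)) := by
  simp [Th]

omit [IsLocalRing A] [IsLocalRing (A ⧸ J)] in
theorem le_Th_zero (g : A) : J.map (algebraMap A (H9Pur.L C g)) ≤ Th J C 0 g := by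
  simp [Th]

/-- The quotient map to functions on a reduced standard open. -/
def toTQ (C : Type u) [CommRing C] [Algebra A C] (g : A) : A ⧸ J →+* TQ J C 0 g :=
  Ideal.Quotient.lift J ((Ideal.Quotient.mk (Th J C 0 g)).comp (algebraMap A (H9Pur.L C g))) fun j hj => by
    rw [RingHom.comp_apply, Ideal.Quotient.eq_zero_iff_mem]
    exact le_Th_zero J g (Ideal.mem_map_of_mem _ hj)

/-- The reduced standard open. -/
def pt (C : Type u) [CommRing C] [Algebra A C] (hg : g ∈ maximalIdeal A) :
    Spec (CommRingCat.of (TQ J C 0 g)) ⟶ redP J C :=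
  pullback.lift (Spec.map (CommRingCat.ofHom (tq J 0 g).toRingHom) ≫ jS C hg)
    ((isPullback_jP J).lift (Spec.map (CommRingCat.ofHom (tq J 0 g).toRingHom) ≫ jU C hg)
      (Spec.map (CommRingCat.ofHom (toTQ J C g))) (by
        rw [Category.assoc, jU_ι, ← Spec.map_comp, ← Spec.map_comp, ← CommRingCat.ofHom_comp,
          ← CommRingCat.ofHom_comp]
        rfl))
    (by rw [IsPullback.lift_fst, Category.assoc, jS_snd])

theorem pt_redFst (hg : g ∈ maximalIdeal A) : pt J C hg ≫ redFst J C =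
    Spec.map (CommRingCat.ofHom (((tq J 0 g).toRingHom).comp (algebraMap C (H9Pur.L C g)))) := by
  rw [pt, redFst, pullback.lift_fst_assoc, Category.assoc, jS_fst, ← Spec.map_comp, ← CommRingCat.ofHom_comp]

theorem tres_pt (hg : g ∈ maximalIdeal A) (hg' : g' ∈ maximalIdeal A) (r : H9Pur.L C g →ₐ[C] H9Pur.L C g') :
    Spec.map (CommRingCat.ofHom (tres J r 0).toRingHom) ≫ pt J C hg = pt J C hg' := by
  rw [← cancel_mono (redFst J C), Category.assoc, pt_redFst, pt_redFst, ← Spec.map_comp, ← CommRingCat.ofHom_comp]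
  congr 2
  exact RingHom.ext fun c => (tres_tq J r 0 _).trans (congrArg (tq J 0 g') (r.commutes c))

/-- The map of functions given by a morphism of reductions. -/
theorem exists_red_algHom (φ : redP J C ⟶ redP J B) (hφ : φ ≫ pullback.snd _ _ = pullback.snd _ _)
    (hg : g ∈ maximalIdeal A) :
    ∃ u : B →ₐ[A] TQ J C 0 g, Spec.map (CommRingCat.ofHom u.toRingHom) = pt J C hg ≫ φ ≫ redFst J B := by
  have key : ∀ (D : Type u) [CommRing D] [Algebra A D], redFst J D ≫ sp A D =
      pullback.snd (rest A D) (jP J) ≫ (FEt.puncturedSpec (A ⧸ J)).ι ≫ qSpec J := fun D _ _ => by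
    rw [redFst, Category.assoc, pullback.condition, ← Category.assoc, pullback.condition, Category.assoc, jP_ι]
  have h1 : CommRingCat.ofHom (algebraMap A B) ≫ Spec.preimage (pt J C hg ≫ φ ≫ redFst J B) =
      CommRingCat.ofHom (algebraMap A (TQ J C 0 g)) := Spec.map_injective (by
    rw [Spec.map_comp, Spec.map_preimage, Category.assoc, Category.assoc, key B, reassoc_of% hφ, ← key C,
      ← Category.assoc, pt_redFst, ← Spec.map_comp, ← CommRingCat.ofHom_comp]
    congr 2)
  exact ⟨{ (Spec.preimage (pt J C hg ≫ φ ≫ redFst J B)).hom with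
    commutes' := fun a => ConcreteCategory.congr_hom h1 a }, Spec.map_preimage _⟩

/-- Morphisms out of a reduction are determined on the reduced standard opens. -/
theorem red_hom_ext {r : ℕ} {g : Fin r → A} (hg : Ideal.span (Set.range g) = maximalIdeal A) {W : Scheme.{u}}
    (a b : redP J C ⟶ W)
    (h : ∀ i, pt J C (hg ▸ Ideal.subset_span ⟨i, rfl⟩ : g i ∈ maximalIdeal A) ≫ a =
      pt J C (hg ▸ Ideal.subset_span ⟨i, rfl⟩ : g i ∈ maximalIdeal A) ≫ b) : a = b := by
  refine Scheme.Cover.hom_ext ((jCover C g hg).pullback₁ (pullback.fst (rest A C) (jP J))) a b fun i => ?_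
  let hgi : g i ∈ maximalIdeal A := hg ▸ Ideal.subset_span ⟨i, rfl⟩
  show pullback.fst (pullback.fst (rest A C) (jP J)) (jS C hgi) ≫ a =
    pullback.fst (pullback.fst (rest A C) (jP J)) (jS C hgi) ≫ b
  let q₁ := pullback.fst (pullback.fst (rest A C) (jP J)) (jS C hgi)
  let q₂ := pullback.snd (pullback.fst (rest A C) (jP J)) (jS C hgi)
  obtain ⟨z, hz⟩ := exists_factor_quot J (Th_zero_le J (C := C) (g i)) q₂
    (q₁ ≫ pullback.snd (rest A C) (jP J) ≫ (FEt.puncturedSpec (A ⧸ J)).ι) (by
      rw [← jU_ι hgi, Category.assoc, Category.assoc, ← jP_ι, ← pullback.condition_assoc,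
        ← jS_snd hgi, Category.assoc, ← Category.assoc q₂, ← pullback.condition, Category.assoc])
  have hq : q₁ = z ≫ pt J C hgi := by
    rw [← cancel_mono (redFst J C), Category.assoc, pt_redFst]
    show q₁ ≫ pullback.fst _ _ ≫ pullback.fst _ _ = _
    rw [pullback.condition_assoc, jS_fst, show pullback.snd (pullback.fst (rest A C) (jP J)) (jS C hgi) = _ from hz.symm, Category.assoc, ← Spec.map_comp,
      ← CommRingCat.ofHom_comp]
    rfl
  show q₁ ≫ a = q₁ ≫ b
  rw [hq, Category.assoc, Category.assoc, h i]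

end Groth.Agent.H9Lef

end
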