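import Groth.Agent.H9Lef.SecCat
import Groth.Agent.LC.CanonComplete
import Groth.Agent.S0546

/-!
# Lefschetz for covers of punctured spectra, through the completion
-/

set_option autoImplicit false
set_option linter.style.haveILetI false

universe u

open CategoryTheory CategoryTheory.Limits AlgebraicGeometry IsLocalRing TensorProduct

noncomputable section

namespace Groth.Agent.H9Lef

open Groth.Agent

theorem killedH_baseChange {A : Type u} [CommRing A] [IsNoetherianRing A] {R : Type u} [CommRing R]
    [IsNoetherianRing R] [Algebra A R] [Module.Flat A R] (J : Ideal A) {f : A} {i : ℕ} (h : KilledH J f i A)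
    {J' : Ideal R} (hJ : J.map (algebraMap A R) = J') : KilledH J' (algebraMap A R f) i R := by
  subst hJ
  obtain ⟨eH⟩ := LC.exists_baseChange (R' := R) J i A
  let e := eH.trans ((localCohomology (J.map (algebraMap A R)) i).mapIso
    (TensorProduct.AlgebraTensorModule.rid A R R).toModuleIso).toLinearEquiv
  obtain ⟨c, hc⟩ := h
  refine ⟨c, fun z => ?_⟩
  obtain ⟨y, rfl⟩ := e.surjective z
  have hy : ∀ y : R ⊗[A] (localCohomology J i).obj (ModuleCat.of A A), f ^ c • y = 0 := fun y => by
    induction y using TensorProduct.induction_on with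
    | zero => rw [smul_zero]
    | add a b ha hb => rw [smul_add, ha, hb, add_zero]
    | tmul a x => rw [← TensorProduct.tmul_smul, hc, TensorProduct.tmul_zero]
  rw [← map_smul, ← map_pow, algebraMap_smul, hy, map_zero]

theorem killedH_completion {A : Type u} [CommRing A] [IsNoetherianRing A] [IsLocalRing A] {f : A} {i : ℕ}
    (h : KilledH (maximalIdeal A) f i A) :
    KilledH (maximalIdeal (AdicCompletion (maximalIdeal A) A))
      (algebraMap A (AdicCompletion (maximalIdeal A) A) f) i (AdicCompletion (maximalIdeal A) A) := by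
  haveI := LC.Canon.isNoetherianRing_completion (R := A)
  haveI : Module.Flat A (AdicCompletion (maximalIdeal A) A) := AdicCompletion.flat_of_isNoetherian _
  exact killedH_baseChange (R := AdicCompletion (maximalIdeal A) A) (maximalIdeal A) h
    (AdicCompletion.maximalIdeal_eq_map (R := A)).symm

variable (A : Type u) [CommRing A] [IsNoetherianRing A] [IsLocalRing A] (f : A) (hf : f ∈ maximalIdeal A)

include hf in
theorem completion_facts : IsNoetherianRing (AdicCompletion (maximalIdeal A) A) ∧
    algebraMap A (AdicCompletion (maximalIdeal A) A) f ∈ maximalIdeal (AdicCompletion (maximalIdeal A) A) ∧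
    IsLocalRing (AdicCompletion (maximalIdeal A) A ⧸
      Ideal.span {algebraMap A (AdicCompletion (maximalIdeal A) A) f}) ∧
    IsAdicComplete (Ideal.span {algebraMap A (AdicCompletion (maximalIdeal A) A) f})
      (AdicCompletion (maximalIdeal A) A) := by
  haveI := LC.Canon.isNoetherianRing_completion (R := A)
  have hmem : algebraMap A (AdicCompletion (maximalIdeal A) A) f ∈
      maximalIdeal (AdicCompletion (maximalIdeal A) A) := by
    rw [AdicCompletion.maximalIdeal_eq_map (R := A)]
    exact Ideal.mem_map_of_mem _ hf
  have hle : Ideal.span {algebraMap A (AdicCompletion (maximalIdeal A) A) f} ≤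
      maximalIdeal (AdicCompletion (maximalIdeal A) A) := (Ideal.span_singleton_le_iff_mem _).2 hmem
  haveI : Nontrivial (AdicCompletion (maximalIdeal A) A ⧸
      Ideal.span {algebraMap A (AdicCompletion (maximalIdeal A) A) f}) :=
    Ideal.Quotient.nontrivial_iff.2 fun h =>
      (maximalIdeal.isMaximal (AdicCompletion (maximalIdeal A) A)).ne_top (top_le_iff.1 (h ▸ hle))
  exact ⟨inferInstance, hmem, IsLocalRing.of_surjective' _ Ideal.Quotient.mk_surjective,
    S0546.result _ _ _ hle (Submodule.fg_span_singleton _) _⟩

variable (h1 : KilledH (maximalIdeal A) f 1 A) (h2 : KilledH (maximalIdeal A) f 2 A)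

include hf h1 h2 in
theorem restrict_completion :
    (FEt.restrict (pullback.fst (pullback.fst (FEt.puncturedSpec A).ι
        (Spec.map (CommRingCat.ofHom (algebraMap A (AdicCompletion (maximalIdeal A) A)))))
      (pullback.fst (FEt.puncturedSpec A).ι (Spec.map (CommRingCat.ofHom (Ideal.Quotient.mk (Ideal.span {f}))))))).Full ∧
    (FEt.restrict (pullback.fst (pullback.fst (FEt.puncturedSpec A).ι
        (Spec.map (CommRingCat.ofHom (algebraMap A (AdicCompletion (maximalIdeal A) A)))))
      (pullback.fst (FEt.puncturedSpec A).ι (Spec.map (CommRingCat.ofHom (Ideal.Quotient.mk (Ideal.span {f}))))))).Faithful := by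
  obtain ⟨h₀, hmem, h₃, h₄⟩ := completion_facts A f hf
  exact restrict_base_change (R := AdicCompletion (maximalIdeal A) A) (AdicCompletion.maximalIdeal_eq_map (R := A)).symm
    f hmem (killedH_completion h1) (killedH_completion h2)

include hf h1 h2 in
theorem exists_extension_completion (V : FEt.Cat (FEt.puncturedSpec A : Scheme.{u}))
    (hV : ∃ Y₀ : FEt.Cat (Spec (CommRingCat.of (A ⧸ Ideal.span {f}))),
      Nonempty ((FEt.restrict (pullback.snd (FEt.puncturedSpec A).ι
        (Spec.map (CommRingCat.ofHom (Ideal.Quotient.mk (Ideal.span {f})))))).obj Y₀ ≅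
        (FEt.restrict (pullback.fst (FEt.puncturedSpec A).ι
        (Spec.map (CommRingCat.ofHom (Ideal.Quotient.mk (Ideal.span {f})))))).obj V)) :
    ∃ Y' : FEt.Cat (Spec (CommRingCat.of (AdicCompletion (maximalIdeal A) A))),
      Nonempty ((FEt.restrict (pullback.snd (FEt.puncturedSpec A).ι
        (Spec.map (CommRingCat.ofHom (algebraMap A (AdicCompletion (maximalIdeal A) A)))))).obj Y' ≅
        (FEt.restrict (pullback.fst (FEt.puncturedSpec A).ι
        (Spec.map (CommRingCat.ofHom (algebraMap A (AdicCompletion (maximalIdeal A) A)))))).obj V) := by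
  obtain ⟨h₀, hmem, h₃, h₄⟩ := completion_facts A f hf
  obtain ⟨Y₀, ⟨e₀⟩⟩ := hV
  exact exists_extension (R := AdicCompletion (maximalIdeal A) A) (AdicCompletion.maximalIdeal_eq_map (R := A)).symm
    f hmem (killedH_completion h1) (killedH_completion h2) V Y₀ e₀

omit [IsNoetherianRing A] in
theorem killedH_of_subsingleton {i : ℕ}
    (h : Subsingleton ((localCohomology (maximalIdeal A) i).obj (ModuleCat.of A A))) :
    KilledH (maximalIdeal A) f i A :=
  ⟨0, fun _ => Subsingleton.elim _ _⟩

end Groth.Agent.H9Lef

end
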